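import Groth.Agent.H45.SheafTensor.Sheafify

/-!
# Basic properties of the tensor product of sheaves of modules on a ringed site
-/

open CategoryTheory Limits Opposite MonoidalCategory

universe u

namespace Groth.Agent.H45

section General

universe v₁ v₂ v₃ u₁ u₂ u₃ w w'

variable {A : Type u₁} [Category.{v₁} A] {B : Type u₂} [Category.{v₂} B]
  {E : Type u₃} [Category.{v₃} E]

/-- If `L ⊣ R` is a reflection (`R` fully faithful) and `H` is a functor which inverts the units
and preserves colimits of shape `K`, then `R ⋙ H` preserves colimits of shape `K`. -/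
theorem preservesColimitsOfShape_of_inverts_unit {L : A ⥤ B} {R : B ⥤ A} (adj : L ⊣ R)
    [R.Full] [R.Faithful] (H : A ⥤ E) (K : Type w) [Category.{w'} K]
    [HasColimitsOfShape K A] [PreservesColimitsOfShape K H]
    (hH : ∀ P, IsIso (H.map (adj.unit.app P))) :
    PreservesColimitsOfShape K (R ⋙ H) := by
  have : IsIso (Functor.whiskerRight adj.unit H) := by
    rw [NatTrans.isIso_iff_isIso_app]
    intro P
    exact hH P
  let e : H ≅ L ⋙ (R ⋙ H) :=
    (Functor.leftUnitor H).symm ≪≫ asIso (Functor.whiskerRight adj.unit H) ≪≫
      Functor.associator _ _ _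
  have hLRH : PreservesColimitsOfShape K (L ⋙ (R ⋙ H)) := preservesColimitsOfShape_of_natIso e
  have hL : PreservesColimitsOfShape K L := by
    have := adj.leftAdjoint_preservesColimits
    infer_instance
  constructor
  intro D
  let i : (D ⋙ R) ⋙ L ≅ D :=
    Functor.associator _ _ _ ≪≫ Functor.isoWhiskerLeft D (asIso adj.counit) ≪≫
      Functor.rightUnitor D
  suffices PreservesColimit ((D ⋙ R) ⋙ L) (R ⋙ H) from preservesColimit_of_iso_diagram _ i
  have hc := colimit.isColimit (D ⋙ R)
  exact preservesColimit_of_preserves_colimit_cocone (isColimitOfPreserves L hc)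
    (isColimitOfPreserves (L ⋙ (R ⋙ H)) hc)

end General

variable {C : Type u} [SmallCategory C] {J : GrothendieckTopology C} (O : Sheaf J CommRingCat.{u})

lemma tensorBi_flip_obj (F : ModSite.Mod O) :
    (ModSite.tensorBi O).flip.obj F = forg O ⋙ tensorRight ((forg O).obj F) ⋙ shf O := rfl

lemma tensorBi_obj (F : ModSite.Mod O) :
    (ModSite.tensorBi O).obj F = forg O ⋙ tensorLeft ((forg O).obj F) ⋙ shf O := rfl

instance (Q : PMod O) (K : Type u) [Category.{u} K] :
    PreservesColimitsOfShape K (forg O ⋙ tensorRight Q ⋙ shf O) := by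
  have : PreservesColimitsOfSize.{u, u} (shf O) := (shfAdj O).leftAdjoint_preservesColimits
  apply preservesColimitsOfShape_of_inverts_unit (shfAdj O) (tensorRight Q ⋙ shf O) K
  intro P
  exact isIso_shf_map_whiskerRight ((shfAdj O).unit.app P) Q

instance (Q : PMod O) (K : Type u) [Category.{u} K] :
    PreservesColimitsOfShape K (forg O ⋙ tensorLeft Q ⋙ shf O) := by
  have : PreservesColimitsOfSize.{u, u} (shf O) := (shfAdj O).leftAdjoint_preservesColimits
  apply preservesColimitsOfShape_of_inverts_unit (shfAdj O) (tensorLeft Q ⋙ shf O) K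
  intro P
  exact isIso_shf_map_whiskerLeft ((shfAdj O).unit.app P) Q

/-- Tensoring with a fixed module (on the right) preserves all small colimits. -/
instance preservesColimits_tensorBi_flip_obj (F : ModSite.Mod O) :
    PreservesColimitsOfSize.{u, u} ((ModSite.tensorBi O).flip.obj F) where
  preservesColimitsOfShape {K} _ := by
    rw [tensorBi_flip_obj]
    infer_instance

/-- Tensoring with a fixed module (on the left) preserves all small colimits. -/
instance preservesColimits_tensorBi_obj (F : ModSite.Mod O) :
    PreservesColimitsOfSize.{u, u} ((ModSite.tensorBi O).obj F) where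
  preservesColimitsOfShape {K} _ := by
    rw [tensorBi_obj]
    infer_instance

end Groth.Agent.H45
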