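import Groth.Agent.H45.SheafTensor.Basic

/-!
# The forgetful functor from sheaves of modules to abelian sheaves preserves colimits
-/

open CategoryTheory Limits Opposite

universe u

namespace Groth.Agent.H45

variable {C : Type u} [SmallCategory C] {J : GrothendieckTopology C} (O : Sheaf J CommRingCat.{u})

/-- `forg ⋙ shf ⋙ toSheaf ≅ toSheaf`. -/
noncomputable def forgShfToSheafIso :
    forg O ⋙ shf O ⋙ SheafOfModules.toSheaf.{u} (ModSite.ringSh O) ≅
      SheafOfModules.toSheaf.{u} (ModSite.ringSh O) :=
  (Functor.associator _ _ _).symm ≪≫
    Functor.isoWhiskerRight (asIso (shfAdj O).counit) _ ≪≫ Functor.leftUnitor _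

instance preservesColimits_toSheaf :
    PreservesColimitsOfSize.{u, u} (SheafOfModules.toSheaf.{u} (ModSite.ringSh O)) where
  preservesColimitsOfShape {K} _ := by
    have h1 : PreservesColimitsOfSize.{u, u} (shf O) := (shfAdj O).leftAdjoint_preservesColimits
    have h2 : PreservesColimitsOfShape K (shf O ⋙ SheafOfModules.toSheaf.{u} (ModSite.ringSh O)) := by
      have : PreservesColimitsOfShape K
          (PresheafOfModules.toPresheaf (ModSite.ringSh O).obj ⋙
            presheafToSheaf J AddCommGrpCat.{u}) := inferInstance
      exact this
    have h3 := preservesColimitsOfShape_of_inverts_unit (shfAdj O)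
      (shf O ⋙ SheafOfModules.toSheaf.{u} (ModSite.ringSh O)) K (fun P => by
        rw [Functor.comp_map]
        infer_instance)
    exact preservesColimitsOfShape_of_natIso (forgShfToSheafIso O)

instance preservesFiniteColimits_toSheaf :
    PreservesFiniteColimits (SheafOfModules.toSheaf.{u} (ModSite.ringSh O)) :=
  PreservesColimitsOfSize.preservesFiniteColimits _

end Groth.Agent.H45
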