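import Groth.Agent.H45.SheafTensor.Equational
import Mathlib.Algebra.Category.ModuleCat.Presheaf.Free

/-!
# Flat sheaves of modules satisfy the local equational criterion
-/

open CategoryTheory Limits Opposite MonoidalCategory

universe u

namespace Groth.Agent.H45

variable {C : Type u} [SmallCategory C] {J : GrothendieckTopology C} {O : Sheaf J CommRingCat.{u}}

section Exactness

/-- Exact sequences of presheaves of modules are exact sectionwise. -/
lemma exists_of_exact_app {S : ShortComplex (PMod O)} (hS : S.Exact) (X : Cᵒᵖ)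
    (x : S.X₂.obj X) (hx : S.g.app X x = 0) : ∃ y : S.X₁.obj X, S.f.app X y = x := by
  have h := hS.map (PresheafOfModules.evaluation _ X)
  rw [ShortComplex.moduleCat_exact_iff] at h
  exact h x hx

/-- If the sheafification of a presheaf of modules vanishes, all its sections are locally zero. -/
lemma locZero_of_isZero_shf {H : PMod O} (h : IsZero ((shf O).obj H)) (X : C)
    (x : H.obj (op X)) : LocZero J H X x := by
  have hiso : IsIso ((shf O).map (0 : H ⟶ H)) :=
    ⟨0, h.eq_of_src _ _, h.eq_of_src _ _⟩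
  exact ((isIso_shf_map_iff _).1 hiso).1 X x rfl

/-- If a complex of presheaves of modules becomes exact after sheafification, cycles are locally
boundaries. -/
theorem exists_local_lift_of_exact_shf (S : ShortComplex (PMod O))
    (hS : (S.map (shf O)).Exact) (X : C) (x : S.X₂.obj (op X)) (hx : S.g.app (op X) x = 0) :
    ∃ T ∈ J X, ∀ ⦃Y : C⦄ (f : Y ⟶ X), T f →
      ∃ y : S.X₁.obj (op Y), S.f.app (op Y) y = res S.X₂ f x := by
  have hH : IsZero ((shf O).obj S.homology) :=
    ((ShortComplex.exact_iff_isZero_homology _).1 hS).of_iso (S.mapHomologyIso (shf O)).symm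
  -- the cycle
  have hZ : (ShortComplex.mk S.iCycles S.g S.iCycles_g).Exact :=
    ShortComplex.exact_of_f_is_kernel _ S.cyclesIsKernel
  obtain ⟨z, hz⟩ := exists_of_exact_app hZ (op X) x hx
  have hz' : S.iCycles.app (op X) z = x := hz
  obtain ⟨T, hT, hT'⟩ := locZero_of_isZero_shf hH X (S.homologyπ.app (op X) z)
  refine ⟨T, hT, fun Y f hf => ?_⟩
  have hB : (ShortComplex.mk S.toCycles S.homologyπ S.toCycles_comp_homologyπ).Exact :=
    ShortComplex.exact_of_g_is_cokernel _ S.homologyIsCokernel
  have h0 : S.homologyπ.app (op Y) (res S.cycles f z) = 0 := by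
    rw [res_naturality]
    exact hT' f hf
  obtain ⟨y, hy⟩ := exists_of_exact_app hB (op Y) (res S.cycles f z) h0
  have hy' : S.toCycles.app (op Y) y = res S.cycles f z := hy
  refine ⟨y, ?_⟩
  have e : S.f.app (op Y) y = S.iCycles.app (op Y) (S.toCycles.app (op Y) y) := by
    conv_lhs => rw [← S.toCycles_i]
    rfl
  rw [e, hy', res_naturality, hz']

end Exactness

section Free

variable {C : Type u} [SmallCategory C] {R : Cᵒᵖ ⥤ CommRingCat.{u}} (U : C) (n : ℕ)
  (c : Fin n → R.obj (op U))

/-- The presheaf of types `W ↦ Hom(W, U) × Fin n`. -/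
def relT : Cᵒᵖ ⥤ Type u where
  obj W := (W.unop ⟶ U) × Fin n
  map r := ↾fun x => (r.unop ≫ x.1, x.2)
  map_id W := by
    ext ⟨g, i⟩
    · simp
    · rfl
  map_comp r s := by
    ext ⟨g, i⟩
    · simp
    · rfl

/-- The free presheaf of modules on `relT U n`. -/
noncomputable def relA : PresheafOfModules.{u} (R ⋙ forget₂ CommRingCat RingCat) :=
  PresheafOfModules.freeObj (relT U n)

/-- The free presheaf of modules on the presheaf represented by `U`. -/
noncomputable def relB : PresheafOfModules.{u} (R ⋙ forget₂ CommRingCat RingCat) :=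
  PresheafOfModules.freeObj (yoneda.obj U)

/-- The generators of `relA`. -/
noncomputable def genA {W : C} (g : W ⟶ U) (i : Fin n) : (relA (R := R) U n).obj (op W) :=
  ModuleCat.freeMk ((g, i) : (relT U n).obj (op W))

/-- The generators of `relB`. -/
noncomputable def genB {W : C} (g : W ⟶ U) : (relB (R := R) U).obj (op W) :=
  ModuleCat.freeMk (g : (yoneda.obj U).obj (op W))

lemma res_genA {W W' : C} (r : W' ⟶ W) (g : W ⟶ U) (i : Fin n) :
    res (relA (R := R) U n) r (genA U n g i) = genA U n (r ≫ g) i := by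
  dsimp only [res, relA, genA]
  erw [PresheafOfModules.freeObj_map, ModuleCat.freeDesc_apply]
  rfl

lemma res_genB {W W' : C} (r : W' ⟶ W) (g : W ⟶ U) :
    res (relB (R := R) U) r (genB U g) = genB U (r ≫ g) := by
  dsimp only [res, relB, genB]
  erw [PresheafOfModules.freeObj_map, ModuleCat.freeDesc_apply]
  rfl

variable {U n}

/-- The map of presheaves of types defining `relφ`. -/
noncomputable def relτ : relT U n ⟶ (relB (R := R) U).presheaf ⋙ forget _ where
  app W := ↾fun x => ((R.map x.1.op).hom (c x.2) • genB U x.1 : (relB (R := R) U).obj (op W.unop))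
  naturality W W' r := by
    ext ⟨g, i⟩
    change (R.map (r.unop ≫ g).op).hom (c i) • genB U (r.unop ≫ g) =
      res (relB (R := R) U) r.unop ((R.map g.op).hom (c i) • genB U g)
    rw [res_smul, res_genB, op_comp, R.map_comp]
    rfl

/-- The morphism `relA ⟶ relB` given by the coefficients `c`. -/
noncomputable def relφ : relA (R := R) U n ⟶ relB U := PresheafOfModules.freeObjDesc (relτ c)

lemma relφ_genA {W : C} (g : W ⟶ U) (i : Fin n) :
    (relφ c).app (op W) (genA U n g i) = (R.map g.op).hom (c i) • genB U g := by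
  dsimp only [relφ, genA]
  erw [PresheafOfModules.freeObjDesc_app, ModuleCat.freeDesc_apply]
  rfl

/-- The ring of sections over `W`, as an object of `RingCat`. -/
abbrev RW (R : Cᵒᵖ ⥤ CommRingCat.{u}) (W : C) : RingCat.{u} :=
  (R ⋙ forget₂ CommRingCat RingCat).obj (op W)

/-- The coordinate functionals on `relA`. -/
noncomputable def coordA {W : C} (g : W ⟶ U) (i : Fin n) :
    (relA (R := R) U n).obj (op W) →ₗ[RW R W] RW R W :=
  Finsupp.lapply ((g, i) : (relT U n).obj (op W))

/-- The coordinate functionals on `relB`. -/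
noncomputable def coordB {W : C} (g : W ⟶ U) :
    (relB (R := R) U).obj (op W) →ₗ[RW R W] RW R W :=
  Finsupp.lapply (g : (yoneda.obj U).obj (op W))

open Classical in
lemma coordA_genA {W : C} (g g' : W ⟶ U) (i i' : Fin n) :
    coordA (R := R) g i (genA U n g' i') = if g' = g ∧ i' = i then 1 else 0 := by
  dsimp only [coordA, genA, ModuleCat.freeMk]
  erw [Finsupp.lapply_apply, Finsupp.single_apply]
  exact if_congr (Iff.of_eq (Prod.mk.injEq _ _ _ _)) rfl rfl

open Classical in
lemma coordB_genB {W : C} (g g' : W ⟶ U) :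
    coordB (R := R) g (genB U g') = if g' = g then 1 else 0 := by
  dsimp only [coordB, genB, ModuleCat.freeMk]
  erw [Finsupp.lapply_apply, Finsupp.single_apply]

/-- The restricted coefficients, as elements of the ring `RW R W`. -/
def cW {W : C} (g : W ⟶ U) (i : Fin n) : RW R W := (R.map g.op).hom (c i)

lemma coordB_relφ {W : C} (g : W ⟶ U) (a : (relA (R := R) U n).obj (op W)) :
    coordB g ((relφ c).app (op W) a) = ∑ i, cW c g i * coordA g i a := by
  classical
  let L₁ : (relA (R := R) U n).obj (op W) →ₗ[RW R W] RW R W :=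
    (coordB g).comp ((relφ c).app (op W)).hom
  let L₂ : (relA (R := R) U n).obj (op W) →ₗ[RW R W] RW R W :=
    ∑ i, cW c g i • coordA g i
  suffices h : L₁ = L₂ by
    have := LinearMap.congr_fun h a
    simpa [L₁, L₂] using this
  apply Finsupp.lhom_ext'
  rintro ⟨g', i'⟩
  apply LinearMap.ext_ring
  change coordB g ((relφ c).app (op W) (genA U n g' i')) =
    (∑ i, cW c g i • coordA g i) (genA U n g' i')
  rw [relφ_genA, LinearMap.sum_apply]
  change coordB g (cW c g' i' • genB U g') = _
  rw [map_smul, coordB_genB]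
  simp only [LinearMap.smul_apply, coordA_genA, smul_eq_mul]
  by_cases h : g' = g
  · subst h
    simp
  · simp [h]

variable (Q : PresheafOfModules.{u} (R ⋙ forget₂ CommRingCat RingCat))

/-- The coordinates, with values in the commutative ring `R.obj (op W)`. -/
noncomputable def coordA' {W : C} (g : W ⟶ U) (i : Fin n) (a : (relA (R := R) U n).obj (op W)) :
    R.obj (op W) := coordA g i a

lemma coordA'_add {W : C} (g : W ⟶ U) (i : Fin n) (a a' : (relA (R := R) U n).obj (op W)) :
    coordA' g i (a + a') = coordA' g i a + coordA' g i a' :=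
  map_add (coordA g i) a a'

lemma coordA'_smul {W : C} (g : W ⟶ U) (i : Fin n) (r : R.obj (op W))
    (a : (relA (R := R) U n).obj (op W)) :
    coordA' g i (r • a) = r * coordA' g i a := by
  have h := map_smul (coordA g i) (show RW R W from r) a
  exact h

/-- The bilinear map `(a, μ) ↦ a(g, i) • μ`. -/
noncomputable def coordBilin {W : C} (g : W ⟶ U) (i : Fin n) :
    (relA (R := R) U n).obj (op W) →ₗ[R.obj (op W)] Q.obj (op W) →ₗ[R.obj (op W)] Q.obj (op W) :=
  LinearMap.mk₂ (R.obj (op W)) (fun a μ => coordA' g i a • μ)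
    (fun a a' μ => by rw [coordA'_add]; exact add_smul _ _ _)
    (fun r a μ => by rw [coordA'_smul]; exact mul_smul _ _ _)
    (fun a μ μ' => smul_add _ _ _)
    (fun r a μ => smul_comm _ _ _)

/-- The functional `a ⊗ μ ↦ a(g, i) • μ` on the sections of `relA ⊗ Q`. -/
noncomputable def coordTensor {W : C} (g : W ⟶ U) (i : Fin n) :
    TensorProduct (R.obj (op W)) ((relA (R := R) U n).obj (op W)) (Q.obj (op W))
      →ₗ[R.obj (op W)] Q.obj (op W) :=
  TensorProduct.lift (coordBilin Q g i)

lemma coordTensor_sum_tmul {W : C} (g : W ⟶ U) (i : Fin n) {κ : Type*} (s : Finset κ)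
    (a : κ → (relA (R := R) U n).obj (op W)) (μ : κ → Q.obj (op W)) :
    coordTensor Q g i (∑ j ∈ s, a j ⊗ₜ[R.obj (op W)] μ j) =
      ∑ j ∈ s, coordA' g i (a j) • μ j := by
  rw [map_sum]
  rfl

open Classical in
lemma coordA'_genA {W : C} (g g' : W ⟶ U) (i i' : Fin n) :
    coordA' (R := R) g i (genA U n g' i') = if g' = g ∧ i' = i then 1 else 0 :=
  coordA_genA g g' i i'

end Free

section Main

lemma exact_map_of_preservesFiniteLimits {𝒜 ℬ : Type*} [Category 𝒜] [Category ℬ] [Abelian 𝒜]
    [Abelian ℬ] (G : 𝒜 ⥤ ℬ) [G.Additive] (hG : PreservesFiniteLimits G) (S : ShortComplex 𝒜)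
    (hS : S.Exact) (hm : Mono S.f) : (S.map G).Exact ∧ Mono (G.map S.f) := by
  have h : PreservesFiniteLimits G ↔ ∀ (S : ShortComplex 𝒜), S.Exact ∧ Mono S.f →
      (S.map G).Exact ∧ Mono (G.map S.f) := (Functor.preservesFiniteLimits_tfae G).out 3 1
  exact h.1 hG S ⟨hS, hm⟩

variable {C : Type u} [SmallCategory C] {J : GrothendieckTopology C} {O : Sheaf J CommRingCat.{u}}

/-- A flat sheaf of modules satisfies the local equational criterion of flatness. -/
theorem lmr1_of_isFlat (F : ModSite.Mod O) (hF : ModSite.IsFlat F) (U : C) (n : ℕ)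
    (c : Fin n → O.obj.obj (op U)) (m : Fin n → ((forg O).obj F).obj (op U))
    (hcm : ∑ i, c i • m i = 0) :
    ∃ S ∈ J U, ∀ ⦃V : C⦄ (g : V ⟶ U), S g →
      ∃ (k : ℕ) (α : Fin n → Fin k → O.obj.obj (op V)) (μ : Fin k → ((forg O).obj F).obj (op V)),
        (∀ i, res ((forg O).obj F) g (m i) = ∑ j, α i j • μ j) ∧
        (∀ j, ∑ i, α i j * (O.obj.map g.op).hom (c i) = 0) := by
  classical
  let F' : PMod O := (forg O).obj F
  let A : PMod O := relA U n
  let B : PMod O := relB U
  let φ : A ⟶ B := relφ c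
  let ι : kernel φ ⟶ A := kernel.ι φ
  -- the exact sequence of presheaves
  let S₀ : ShortComplex (PMod O) := ShortComplex.mk ι φ (kernel.condition φ)
  have hS₀ : S₀.Exact := ShortComplex.exact_kernel φ
  have hS₀m : Mono S₀.f := inferInstanceAs (Mono (kernel.ι φ))
  have : (shf O).Additive := by
    have : PreservesBinaryBiproducts (shf O) :=
      preservesBinaryBiproducts_of_preservesBinaryProducts _
    exact Functor.additive_of_preservesBinaryBiproducts _
  have h1 := exact_map_of_preservesFiniteLimits (shf O) inferInstance S₀ hS₀ hS₀m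
  have hFl : PreservesFiniteLimits ((ModSite.tensorBi O).flip.obj F) := hF.1
  have h2 := exact_map_of_preservesFiniteLimits ((ModSite.tensorBi O).flip.obj F) hFl
    (S₀.map (shf O)) h1.1 h1.2
  -- the presheaf-level complex
  let Sp : ShortComplex (PMod O) := ShortComplex.mk (ι ▷ F') (φ ▷ F') (by
    rw [← comp_whiskerRight, kernel.condition]
    exact (tensorRight F').map_zero _ _)
  have hSp : (Sp.map (shf O)).Exact := by
    have hiso : ∀ P : PMod O, IsIso ((shf O).map ((shfAdj O).unit.app P ▷ F')) :=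
      fun P => isIso_shf_map_whiskerRight _ _
    have hnat : ∀ {P P' : PMod O} (ψ : P ⟶ P'),
        (shf O).map (ψ ▷ F') ≫ (shf O).map ((shfAdj O).unit.app P' ▷ F') =
          (shf O).map ((shfAdj O).unit.app P ▷ F') ≫
            ((ModSite.tensorBi O).flip.obj F).map ((shf O).map ψ) := by
      intro P P' ψ
      change _ = (shf O).map ((shfAdj O).unit.app P ▷ F') ≫
        (shf O).map ((forg O).map ((shf O).map ψ) ▷ F')
      rw [← Functor.map_comp, ← Functor.map_comp, ← comp_whiskerRight, ← comp_whiskerRight]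
      congr 2
      exact (shfAdj O).unit.naturality ψ
    let e : ∀ P : PMod O, (shf O).obj (P ⊗ F') ≅
        ((ModSite.tensorBi O).flip.obj F).obj ((shf O).obj P) := fun P =>
      @asIso _ _ _ _ ((shf O).map ((shfAdj O).unit.app P ▷ F')) (hiso P)
    refine ShortComplex.exact_of_iso (ShortComplex.isoMk (S₁ := Sp.map (shf O))
      (S₂ := (S₀.map (shf O)).map ((ModSite.tensorBi O).flip.obj F))
      (e (kernel φ)) (e A) (e B) ?_ ?_).symm h2.1
    · exact (hnat ι).symm
    · exact (hnat φ).symm
  -- the element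
  let t : (A ⊗ F').obj (op U) := ∑ i, tmulS F' (genA U n (𝟙 U) i) (m i)
  have ht : (φ ▷ F').app (op U) t = 0 := by
    have e1 : ∀ i, (φ ▷ F').app (op U) (tmulS F' (genA U n (𝟙 U) i) (m i)) =
        tmulS F' (genB U (𝟙 U)) (c i • m i) := by
      intro i
      rw [whiskerRight_app_tmulS]
      have e2 : φ.app (op U) (genA U n (𝟙 U) i) = c i • genB U (𝟙 U) := by
        have := relφ_genA c (𝟙 U) i
        rw [op_id, O.obj.map_id] at this
        exact this
      rw [e2]
      exact TensorProduct.smul_tmul _ _ _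
    dsimp only [t]
    rw [map_sum, Finset.sum_congr rfl (fun i _ => e1 i)]
    have e3 : ∑ i, tmulS F' (genB (R := O.obj) U (𝟙 U)) (c i • m i) =
        tmulS F' (genB U (𝟙 U)) (∑ i, c i • m i) :=
      (TensorProduct.tmul_sum _ _ _).symm
    rw [e3, hcm]
    exact TensorProduct.tmul_zero _ _
  obtain ⟨T, hT, hT'⟩ := exists_local_lift_of_exact_shf Sp hSp U t ht
  refine ⟨T, hT, fun V g hg => ?_⟩
  obtain ⟨y, hy⟩ := hT' g hg
  have hy' : (ι ▷ F').app (op V) y = res (A ⊗ F') g t := hy
  obtain ⟨k, κ, μ, hyk⟩ := TensorProduct.exists_sum_tmul_eq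
    (show TensorProduct (O.obj.obj (op V)) ((kernel φ).obj (op V)) (F'.obj (op V)) from y)
  let a : Fin k → A.obj (op V) := fun j => ι.app (op V) (κ j)
  have h1 : (ι ▷ F').app (op V) y = ∑ j, a j ⊗ₜ[O.obj.obj (op V)] μ j := by
    have hyk' : y = ∑ j, tmulS F' (κ j) (μ j) := hyk
    rw [hyk', map_sum]
    rfl
  have h2 : res (A ⊗ F') g t =
      ∑ i', genA U n g i' ⊗ₜ[O.obj.obj (op V)] res F' g (m i') := by
    dsimp only [t]
    rw [res_sum]
    refine Finset.sum_congr rfl (fun i' _ => ?_)
    rw [res_tmulS, res_genA, Category.comp_id]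
    rfl
  have hφa : ∀ j, φ.app (op V) (a j) = 0 := by
    intro j
    have : (ι ≫ φ).app (op V) (κ j) = 0 := by
      rw [kernel.condition]
      rfl
    exact this
  refine ⟨k, fun i j => coordA' g i (a j), μ, fun i => ?_, fun j => ?_⟩
  · have h3 := congrArg (coordTensor F' g i) (h1.symm.trans (hy'.trans h2))
    rw [coordTensor_sum_tmul, coordTensor_sum_tmul] at h3
    have h4 : ∑ i', coordA' (R := O.obj) g i (genA U n g i') • res F' g (m i') =
        res F' g (m i) := by
      rw [Finset.sum_eq_single i]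
      · rw [coordA'_genA, if_pos ⟨rfl, rfl⟩, one_smul]
      · intro i' _ hi'
        rw [coordA'_genA, if_neg (fun h => hi' h.2), zero_smul]
      · intro hi
        exact absurd (Finset.mem_univ i) hi
    exact (h3.trans h4).symm
  · have h4 := coordB_relφ c g (a j)
    rw [hφa j, map_zero] at h4
    have h5 : ∑ i, coordA' g i (a j) * (O.obj.map g.op).hom (c i) =
        ∑ i, cW c g i * coordA g i (a j) :=
      Finset.sum_congr rfl (fun i _ => mul_comm _ _)
    rw [h5]
    exact h4.symm

end Main

end Groth.Agent.H45
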