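import Groth.Agent.H45.SheafTensor.StalkFlat
import Groth.Agent.H45.SheafTensor.FlatLMR

/-!
# The local equational criterion implies flatness of the stalks
-/

open CategoryTheory Limits Opposite TopologicalSpace

universe u

namespace Groth.Agent.H45

section Main

variable {X : TopCat.{u}} {R : X.Presheaf CommRingCat.{u}}
  (M : PresheafOfModules.{u} (R ⋙ forget₂ CommRingCat RingCat))

/-- The single relation form of the local equational criterion. -/
def LMR1 {C : Type u} [SmallCategory C] (J : GrothendieckTopology C) {R : Cᵒᵖ ⥤ CommRingCat.{u}}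
    (Q : PresheafOfModules.{u} (R ⋙ forget₂ CommRingCat RingCat)) : Prop :=
  ∀ (U : C) (n : ℕ) (c : Fin n → R.obj (op U)) (m : Fin n → Q.obj (op U)),
    ∑ i, c i • m i = 0 →
    ∃ S ∈ J U, ∀ ⦃V : C⦄ (g : V ⟶ U), S g →
      ∃ (k : ℕ) (α : Fin n → Fin k → R.obj (op V)) (μ : Fin k → Q.obj (op V)),
        (∀ i, res Q g (m i) = ∑ j, α i j • μ j) ∧
        (∀ j, ∑ i, α i j * (R.map g.op).hom (c i) = 0)

/-- A presheaf of modules on a ringed space which satisfies the local equational criterion has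
flat stalks. -/
theorem flat_stalk_of_lmr1 (h : LMR1 (Opens.grothendieckTopology X) M) (x : X) :
    Module.Flat (R.stalk x) ↑(TopCat.Presheaf.stalk M.presheaf x) := by
  apply Module.Flat.of_forall_isTrivialRelation
  intro l f t hft
  -- Step 1: representatives of the `f i`
  obtain ⟨V₁, -, hxV₁, hf₁⟩ := exists_common_nhd x (⊤ : Opens X) trivial (ι := Fin l)
    (fun i V => ∃ (hx : x ∈ V) (a : R.obj (op V)), gR x V hx a = f i)
    (fun i V W _ hWV hxW ⟨hx, a, ha⟩ =>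
      ⟨hxW, (R.map (homOfLE hWV).op).hom a, (gR_res x (homOfLE hWV) hxW a).trans ha⟩)
    (fun i => by
      obtain ⟨V, hx, a, ha⟩ := exists_gR_eq x (f i)
      exact ⟨V, le_top, hx, hx, a, ha⟩)
  choose _ r₁ hr₁ using hf₁
  -- Step 2: representatives of the `t i`
  obtain ⟨V₂, hV₂V₁, hxV₂, ht₂⟩ := exists_common_nhd x V₁ hxV₁ (ι := Fin l)
    (fun i V => ∃ (hx : x ∈ V) (b : M.obj (op V)), gM M x V hx b = t i)
    (fun i V W _ hWV hxW ⟨hx, b, hb⟩ =>
      ⟨hxW, res M (homOfLE hWV) b, (gM_res x (homOfLE hWV) hxW b).trans hb⟩)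
    (fun i => by
      obtain ⟨V, hx, b, hb⟩ := exists_gM_eq x (t i)
      exact ⟨V₁ ⊓ V, inf_le_left, ⟨hxV₁, hx⟩, ⟨hxV₁, hx⟩,
        res M (homOfLE (inf_le_right : V₁ ⊓ V ≤ V)) b,
        (gM_res x (homOfLE inf_le_right) ⟨hxV₁, hx⟩ b).trans hb⟩)
  choose _ m₂ hm₂ using ht₂
  let r₂ : Fin l → R.obj (op V₂) := fun i => (R.map (homOfLE hV₂V₁).op).hom (r₁ i)
  have hr₂ : ∀ i, gR x V₂ hxV₂ (r₂ i) = f i := fun i =>
    (gR_res x (homOfLE hV₂V₁) hxV₂ _).trans (hr₁ i)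
  have hm₂' : ∀ i, gM M x V₂ hxV₂ (m₂ i) = t i := fun i => hm₂ i
  -- Step 3: the relation holds near `x`
  obtain ⟨W, hWV₂, hxW, hW⟩ := exists_res_eq_of_gM_eq x hxV₂ (∑ i, r₂ i • m₂ i) 0 (by
    rw [gM_zero, gM_sum, ← hft]
    refine Finset.sum_congr rfl (fun i _ => ?_)
    rw [gM_smul, hr₂, hm₂'])
  let r₃ : Fin l → R.obj (op W) := fun i => (R.map (homOfLE hWV₂).op).hom (r₂ i)
  let m₃ : Fin l → M.obj (op W) := fun i => res M (homOfLE hWV₂) (m₂ i)
  have hrel : ∑ i, r₃ i • m₃ i = 0 := by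
    have := hW hWV₂
    rw [res_zero, res_sum] at this
    rw [← this]
    refine Finset.sum_congr rfl (fun i _ => ?_)
    rw [res_smul]
  have hr₃ : ∀ i, gR x W hxW (r₃ i) = f i := fun i =>
    (gR_res x (homOfLE hWV₂) hxW _).trans (hr₂ i)
  have hm₃ : ∀ i, gM M x W hxW (m₃ i) = t i := fun i =>
    (gM_res x (homOfLE hWV₂) hxW _).trans (hm₂' i)
  -- Step 4: apply the local criterion
  obtain ⟨S, hS, hS'⟩ := h W l r₃ m₃ hrel
  obtain ⟨V, g, hg, hxV⟩ := hS x hxW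
  obtain ⟨k, α, μ, h1, h2⟩ := hS' g hg
  refine ⟨k, fun i j => gR x V hxV (α i j), fun j => gM M x V hxV (μ j), fun i => ?_, fun j => ?_⟩
  · rw [← hm₃ i, ← gM_res x g hxV (m₃ i), h1 i, gM_sum]
    refine Finset.sum_congr rfl (fun j _ => ?_)
    rw [gM_smul]
  · have := congrArg (gR x V hxV) (h2 j)
    rw [map_zero, map_sum] at this
    rw [← this]
    refine Finset.sum_congr rfl (fun i _ => ?_)
    rw [map_mul, gR_res x g hxV, hr₃, mul_comm]

end Main

end Groth.Agent.H45
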