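import Groth.Agent.H45.SheafTensor.Flat
import Mathlib.CategoryTheory.Abelian.GrothendieckAxioms.Basic
import Mathlib.CategoryTheory.Abelian.GrothendieckAxioms.FunctorCategory

/-!
# Operations preserving flatness of sheaves of modules: tensor products and direct sums
-/

open CategoryTheory Limits Opposite MonoidalCategory

universe u

namespace Groth.Agent.H45

variable {C : Type u} [SmallCategory C] {J : GrothendieckTopology C} (O : Sheaf J CommRingCat.{u})

/-- Symmetry of the tensor product of sheaves of modules, as an isomorphism of functors. -/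
noncomputable def tensorBiObjIsoFlipObj (F : ModSite.Mod O) :
    (ModSite.tensorBi O).obj F ≅ (ModSite.tensorBi O).flip.obj F :=
  Functor.isoWhiskerLeft (forg O)
    (Functor.isoWhiskerRight (BraidedCategory.tensorLeftIsoTensorRight ((forg O).obj F)) (shf O))

/-- Auxiliary isomorphism for `tensorBiFlipObjTensorIso`. -/
noncomputable def flipTensorAuxIso (G F : ModSite.Mod O) :
    forg O ⋙ (tensorRight ((forg O).obj G) ⋙ tensorRight ((forg O).obj F)) ⋙ shf O ≅
      (forg O ⋙ tensorRight ((forg O).obj G) ⋙ shf O) ⋙
        (forg O ⋙ tensorRight ((forg O).obj F) ⋙ shf O) :=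
  have hiso : ∀ H : ModSite.Mod O, IsIso ((shf O).map
      ((shfAdj O).unit.app ((forg O).obj H ⊗ (forg O).obj G) ▷ (forg O).obj F)) :=
    fun H => isIso_shf_map_whiskerRight _ _
  NatIso.ofComponents
    (fun H => @asIso _ _ _ _ ((shf O).map
      ((shfAdj O).unit.app ((forg O).obj H ⊗ (forg O).obj G) ▷ (forg O).obj F)) (hiso H)) (by
      intro H H' f
      have := (shfAdj O).unit.naturality ((forg O).map f ▷ (forg O).obj G)
      change (shf O).map (((forg O).map f ▷ (forg O).obj G) ▷ (forg O).obj F) ≫
        (shf O).map ((shfAdj O).unit.app ((forg O).obj H' ⊗ (forg O).obj G) ▷ (forg O).obj F) =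
        (shf O).map ((shfAdj O).unit.app ((forg O).obj H ⊗ (forg O).obj G) ▷ (forg O).obj F) ≫
        (shf O).map ((forg O).map ((shf O).map ((forg O).map f ▷ (forg O).obj G)) ▷
          (forg O).obj F)
      rw [← Functor.map_comp, ← Functor.map_comp, ← comp_whiskerRight, ← comp_whiskerRight]
      congr 2)

/-- Associativity of the tensor product of sheaves of modules, in the form
`- ⊗ (G ⊗ F) ≅ (- ⊗ G) ⊗ F`. -/
noncomputable def tensorBiFlipObjTensorIso (G F : ModSite.Mod O) :
    (ModSite.tensorBi O).flip.obj (((ModSite.tensorBi O).obj G).obj F) ≅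
      (ModSite.tensorBi O).flip.obj G ⋙ (ModSite.tensorBi O).flip.obj F :=
  (tensorRightShfIso O ((forg O).obj G ⊗ (forg O).obj F)).symm ≪≫
    Functor.isoWhiskerLeft (forg O)
      (Functor.isoWhiskerRight (tensorRightTensor ((forg O).obj G) ((forg O).obj F)) (shf O)) ≪≫
    flipTensorAuxIso O G F

variable {O}

/-- The tensor product of two flat modules is flat. -/
theorem isFlat_tensor (G F : ModSite.Mod O) (hG : ModSite.IsFlat G) (hF : ModSite.IsFlat F) :
    ModSite.IsFlat (((ModSite.tensorBi O).obj G).obj F) := by
  rw [isFlat_iff] at hG hF ⊢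
  have : PreservesFiniteLimits
      ((ModSite.tensorBi O).flip.obj G ⋙ (ModSite.tensorBi O).flip.obj F) := inferInstance
  exact preservesFiniteLimits_of_natIso (tensorBiFlipObjTensorIso O G F).symm

/-- Tensoring on the left with a flat module is also left exact. -/
theorem IsFlat.preservesFiniteLimits_tensorBi_obj {F : ModSite.Mod O} (hF : ModSite.IsFlat F) :
    PreservesFiniteLimits ((ModSite.tensorBi O).obj F) := by
  have := hF.1
  exact preservesFiniteLimits_of_natIso (tensorBiObjIsoFlipObj O F).symm

section Coproducts

universe v₁ v₂ u₁ u₂ w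

/-- In a functor category whose target has exact coproducts, a coproduct of functors preserving
finite limits preserves finite limits. -/
theorem preservesFiniteLimits_of_isColimit_discrete {A : Type u₁} [Category.{v₁} A]
    {B : Type u₂} [Category.{v₂} B] {ι : Type w}
    [HasColimitsOfShape (Discrete ι) B] [HasExactColimitsOfShape (Discrete ι) B]
    (Φ : Discrete ι ⥤ (A ⥤ B)) (h : ∀ i, PreservesFiniteLimits (Φ.obj i)) (cc : Cocone Φ)
    (hcc : IsColimit cc) : PreservesFiniteLimits cc.pt := by
  have h1 : PreservesFiniteLimits Φ.flip := by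
    refine ⟨fun K _ _ => ?_⟩
    apply preservesLimitsOfShape_of_evaluation
    intro i
    have := h i
    exact preservesLimitsOfShape_of_natIso (flipCompEvaluation Φ i).symm
  have h2 : PreservesFiniteLimits (colim : (Discrete ι ⥤ B) ⥤ B) :=
    HasExactColimitsOfShape.preservesFiniteLimits
  have h3 : PreservesFiniteLimits (Φ.flip ⋙ colim) := inferInstance
  exact preservesFiniteLimits_of_natIso
    ((colimitIsoFlipCompColim Φ).symm ≪≫ (hcc.coconePointUniqueUpToIso (colimit.isColimit Φ)).symm)

end Coproducts

/-- Filtered colimits are exact in the category of sheaves of modules. -/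
instance ab5_mod : AB5OfSize.{u, u} (ModSite.Mod O) where
  ofShape Λ _ _ := by
    have h0 : HasExactColimitsOfShape Λ (Cᵒᵖ ⥤ AddCommGrpCat.{u}) := inferInstance
    have h1 : ReflectsFiniteLimits (PresheafOfModules.toPresheaf.{u} (ModSite.ringSh O).obj) :=
      ⟨fun J _ _ => reflectsLimitsOfShape_of_reflectsIsomorphisms⟩
    have h2 : HasExactColimitsOfShape Λ (PresheafOfModules.{u} (ModSite.ringSh O).obj) :=
      HasExactColimitsOfShape.domain_of_functor Λ
        (PresheafOfModules.toPresheaf.{u} (ModSite.ringSh O).obj)
    exact (PresheafOfModules.sheafificationAdjunction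
      (𝟙 (ModSite.ringSh O).obj)).hasExactColimitsOfShape Λ

/-- Coproducts are exact in the category of sheaves of modules. -/
instance ab4_mod : AB4OfSize.{u} (ModSite.Mod O) :=
  haveI : HasFiniteBiproducts (ModSite.Mod O) := Abelian.hasFiniteBiproducts
  AB4.of_AB5 _

/-- A direct sum of flat modules is flat. -/
theorem isFlat_of_isColimit_cofan {ι : Type u} (F : ι → ModSite.Mod O)
    (hF : ∀ i, ModSite.IsFlat (F i)) (c : Cofan F) (hc : IsColimit c) : ModSite.IsFlat c.pt := by
  rw [isFlat_iff]
  have hpres : PreservesColimit (Discrete.functor F) (ModSite.tensorBi O).flip := by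
    apply preservesColimit_of_evaluation
    intro H
    exact preservesColimit_of_natIso _ (flipCompEvaluation (ModSite.tensorBi O) H).symm
  exact preservesFiniteLimits_of_isColimit_discrete
    (Discrete.functor F ⋙ (ModSite.tensorBi O).flip) (fun i => (hF i.as).1)
    ((ModSite.tensorBi O).flip.mapCocone c) (isColimitOfPreserves _ hc)

end Groth.Agent.H45
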