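import Groth.Agent.H45.SheafTensor.Basic
import Mathlib.Algebra.Category.ModuleCat.Presheaf.Generator
import Mathlib.CategoryTheory.Adjunction.AdjointFunctorTheorems
import Mathlib.CategoryTheory.Abelian.Subobject

/-!
# Existence of the internal hom of sheaves of modules, via the special adjoint functor theorem
-/

open CategoryTheory Limits Opposite

universe u

namespace Groth.Agent.H45

variable {C : Type u} [SmallCategory C] {J : GrothendieckTopology C} (O : Sheaf J CommRingCat.{u})

/-- The sheafifications of the free presheaves of modules on representable presheaves. -/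
noncomputable def freeYonedaSh (X : C) : ModSite.Mod O :=
  (shf O).obj ((PresheafOfModules.free _).obj (yoneda.obj X))

/-- The family `freeYonedaSh O X` is separating in `Mod O`. -/
lemma isSeparating_freeYonedaSh :
    ObjectProperty.IsSeparating (.ofObj (freeYonedaSh O)) := by
  intro F G f g hfg
  apply (forg O).map_injective
  refine PresheafOfModules.freeYoneda.isSeparating _ _ _ ?_
  rintro _ ⟨X⟩ a
  apply ((shfAdj O).homEquiv _ _).symm.injective
  have h := hfg _ (ObjectProperty.ofObj_apply _ X) (((shfAdj O).homEquiv _ _).symm a)
  exact ((shfAdj O).homEquiv_naturality_right_symm a f).trans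
    (h.trans ((shfAdj O).homEquiv_naturality_right_symm a g).symm)

instance wellPowered_mod : WellPowered.{u} (ModSite.Mod O) :=
  wellPowered_of_isDetecting (isSeparating_freeYonedaSh O).isDetecting

/-- Any colimit preserving functor out of `Mod O` is a left adjoint. -/
theorem isLeftAdjoint_of_preservesColimits {D : Type*} [Category.{u} D]
    (G : ModSite.Mod O ⥤ D) [PreservesColimitsOfSize.{u, u} G] : G.IsLeftAdjoint :=
  isLeftAdjoint_of_preservesColimits_of_isSeparating (isSeparating_freeYonedaSh O) G

/-- The internal hom exists: `- ⊗_O F` has a right adjoint. -/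
theorem hasSheafHom (F : ModSite.Mod O) : ModSite.HasSheafHom F :=
  isLeftAdjoint_of_preservesColimits O _

end Groth.Agent.H45
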