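import Mathlib.CategoryTheory.Abelian.Refinements

/-!
# A diagram chase in abelian categories
-/

open CategoryTheory Limits

namespace Groth.Agent.H45

universe v u

/-- In a commutative diagram
```
A₁ → A₂ → A₃
↓    ↓    ↓
B₁ → B₂ → B₃
↓    ↓
C₁ → C₂
```
in an abelian category, with `A₂ → A₃` epi, `A₁ → A₂ → A₃` zero, the middle row exact, the left
column exact, the middle column zero, `C₁ → C₂` mono and `A₂ → B₂` mono, the map `A₃ → B₃`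
is a monomorphism. -/
theorem mono_of_grid {𝒜 : Type u} [Category.{v} 𝒜] [Abelian 𝒜]
    {A₁ A₂ A₃ B₁ B₂ B₃ C₁ C₂ : 𝒜}
    (a₁ : A₁ ⟶ A₂) (a₂ : A₂ ⟶ A₃) (b₁ : B₁ ⟶ B₂) (b₂ : B₂ ⟶ B₃) (c₁ : C₁ ⟶ C₂)
    (f₁ : A₁ ⟶ B₁) (f₂ : A₂ ⟶ B₂) (f₃ : A₃ ⟶ B₃) (g₁ : B₁ ⟶ C₁) (g₂ : B₂ ⟶ C₂)
    (sq₁ : a₁ ≫ f₂ = f₁ ≫ b₁) (sq₂ : a₂ ≫ f₃ = f₂ ≫ b₂) (sq₃ : b₁ ≫ g₂ = g₁ ≫ c₁)
    (ha : a₁ ≫ a₂ = 0) [Epi a₂]
    (hb : b₁ ≫ b₂ = 0) (hbe : (ShortComplex.mk b₁ b₂ hb).Exact)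
    (hfg₁ : f₁ ≫ g₁ = 0) (hfg₁e : (ShortComplex.mk f₁ g₁ hfg₁).Exact)
    (hfg₂ : f₂ ≫ g₂ = 0) [Mono c₁] [Mono f₂] : Mono f₃ := by
  rw [Preadditive.mono_iff_cancel_zero]
  intro A x hx
  -- step 1: lift `x` along the epimorphism `a₂`
  obtain ⟨A₁', π₁, hπ₁, y, hy⟩ := surjective_up_to_refinements_of_epi a₂ x
  -- step 2: `y ≫ f₂` is killed by `b₂`, hence comes from `B₁`
  have h2 : (y ≫ f₂) ≫ b₂ = 0 := by
    rw [Category.assoc, ← sq₂, ← Category.assoc, ← hy, Category.assoc, hx, comp_zero]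
  obtain ⟨A₂', π₂, hπ₂, z, hz⟩ := hbe.exact_up_to_refinements (y ≫ f₂) h2
  dsimp at z hz
  -- step 3: `z ≫ g₁ = 0`
  have h3 : z ≫ g₁ = 0 := by
    rw [← cancel_mono c₁, zero_comp, Category.assoc, ← sq₃, ← Category.assoc, ← hz,
      Category.assoc, Category.assoc, hfg₂, comp_zero, comp_zero]
  -- step 4: `z` comes from `A₁`
  obtain ⟨A₃', π₃, hπ₃, w, hw⟩ := hfg₁e.exact_up_to_refinements z h3
  dsimp at w hw
  -- step 5: `w ≫ a₁ = π₃ ≫ π₂ ≫ y`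
  have h5 : w ≫ a₁ = π₃ ≫ π₂ ≫ y := by
    rw [← cancel_mono f₂, Category.assoc, sq₁, ← Category.assoc, ← hw, Category.assoc, ← hz,
      Category.assoc, Category.assoc]
  -- step 6: conclusion
  have h6 : (π₃ ≫ π₂ ≫ π₁) ≫ x = 0 := by
    rw [Category.assoc, Category.assoc, hy, ← Category.assoc π₂, ← Category.assoc π₃, ← h5,
      Category.assoc, ha, comp_zero]
  have : Epi (π₃ ≫ π₂ ≫ π₁) := inferInstance
  exact (cancel_epi (π₃ ≫ π₂ ≫ π₁)).1 (h6.trans comp_zero.symm)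

end Groth.Agent.H45
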