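import Groth.Agent.H45.SheafTensor.FlatOps
import Groth.Agent.H45.SheafTensor.Chase
import Mathlib.CategoryTheory.Abelian.Exact

/-!
# Flatness and short exact sequences of sheaves of modules
-/

open CategoryTheory Limits Opposite MonoidalCategory

universe u

namespace Groth.Agent.H45

variable {C : Type u} [SmallCategory C] {J : GrothendieckTopology C} (O : Sheaf J CommRingCat.{u})

instance preservesZeroMorphisms_tensorBi_obj (F : ModSite.Mod O) :
    ((ModSite.tensorBi O).obj F).PreservesZeroMorphisms :=
  Functor.preservesZeroMorphisms_of_preserves_initial_object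

instance preservesZeroMorphisms_tensorBi_flip_obj (F : ModSite.Mod O) :
    ((ModSite.tensorBi O).flip.obj F).PreservesZeroMorphisms :=
  Functor.preservesZeroMorphisms_of_preserves_initial_object

attribute [local instance] preservesBinaryBiproducts_of_preservesBinaryCoproducts in
instance additive_tensorBi_obj (F : ModSite.Mod O) : ((ModSite.tensorBi O).obj F).Additive :=
  Functor.additive_of_preservesBinaryBiproducts _

attribute [local instance] preservesBinaryBiproducts_of_preservesBinaryCoproducts in
instance additive_tensorBi_flip_obj (F : ModSite.Mod O) :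
    ((ModSite.tensorBi O).flip.obj F).Additive :=
  Functor.additive_of_preservesBinaryBiproducts _

variable {O}

/-- Right exactness of the tensor product, in the first variable. -/
lemma tensor_flip_exact_and_epi (G : ModSite.Mod O) (S : ShortComplex (ModSite.Mod O))
    (hS : S.ShortExact) :
    (S.map ((ModSite.tensorBi O).flip.obj G)).Exact ∧
      Epi (((ModSite.tensorBi O).flip.obj G).map S.g) :=
  (Functor.preservesFiniteColimits_iff_forall_exact_map_and_epi
    ((ModSite.tensorBi O).flip.obj G)).1
      (PreservesColimitsOfSize.preservesFiniteColimits _) S hS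

/-- Right exactness of the tensor product, in the second variable. -/
lemma tensor_exact_and_epi (G : ModSite.Mod O) (S : ShortComplex (ModSite.Mod O))
    (hS : S.ShortExact) :
    (S.map ((ModSite.tensorBi O).obj G)).Exact ∧
      Epi (((ModSite.tensorBi O).obj G).map S.g) :=
  (Functor.preservesFiniteColimits_iff_forall_exact_map_and_epi
    ((ModSite.tensorBi O).obj G)).1
      (PreservesColimitsOfSize.preservesFiniteColimits _) S hS

/-- If `0 → F'' → F' → F → 0` is short exact with `F` flat, then tensoring with any `G` preserves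
the injectivity of `F'' → F'`. -/
theorem mono_tensor_map_of_isFlat (S : ShortComplex (ModSite.Mod O)) (hS : S.ShortExact)
    (hF : ModSite.IsFlat S.X₃) (G : ModSite.Mod O) :
    Mono (((ModSite.tensorBi O).flip.obj G).map S.f) := by
  obtain ⟨L, π, hL, hπ⟩ := exists_flat_cover O G
  let E : ShortComplex (ModSite.Mod O) := ShortComplex.mk (kernel.ι π) π (kernel.condition π)
  have hE : E.ShortExact :=
    { exact := ShortComplex.exact_of_f_is_kernel _ (kernelIsKernel π)
      mono_f := inferInstanceAs (Mono (kernel.ι π))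
      epi_g := hπ }
  let T := ModSite.tensorBi O
  have hc₁ : Mono ((T.obj S.X₃).map (kernel.ι π)) := by
    have := IsFlat.preservesFiniteLimits_tensorBi_obj hF
    infer_instance
  have hf₂ : Mono ((T.flip.obj L).map S.f) := by
    have := hL.1
    have := hS.mono_f
    infer_instance
  have hb := tensor_exact_and_epi S.X₂ E hE
  have ha := tensor_exact_and_epi S.X₁ E hE
  have hfg := tensor_flip_exact_and_epi (kernel π) S hS
  have ha₂ : Epi ((T.obj S.X₁).map π) := ha.2
  exact mono_of_grid ((T.obj S.X₁).map (kernel.ι π)) ((T.obj S.X₁).map π)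
    ((T.obj S.X₂).map (kernel.ι π)) ((T.obj S.X₂).map π) ((T.obj S.X₃).map (kernel.ι π))
    ((T.flip.obj (kernel π)).map S.f) ((T.flip.obj L).map S.f) ((T.flip.obj G).map S.f)
    ((T.flip.obj (kernel π)).map S.g) ((T.flip.obj L).map S.g)
    ((T.map S.f).naturality (kernel.ι π)) ((T.map S.f).naturality π)
    ((T.map S.g).naturality (kernel.ι π))
    (by rw [← Functor.map_comp, kernel.condition, Functor.map_zero])
    (by rw [← Functor.map_comp, kernel.condition, Functor.map_zero]) hb.1
    (by rw [← Functor.map_comp, S.zero, Functor.map_zero]) hfg.1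
    (by rw [← Functor.map_comp, S.zero, Functor.map_zero])

/-- If `0 → F'' → F' → F → 0` is short exact with `F` flat, then it remains short exact after
tensoring with any module `G` (on the right). -/
theorem tensor_shortExact_of_isFlat (S : ShortComplex (ModSite.Mod O)) (hS : S.ShortExact)
    (hF : ModSite.IsFlat S.X₃) (G : ModSite.Mod O)
    [((ModSite.tensorBi O).flip.obj G).PreservesZeroMorphisms] :
    (S.map ((ModSite.tensorBi O).flip.obj G)).ShortExact :=
  { exact := (tensor_flip_exact_and_epi G S hS).1
    mono_f := mono_tensor_map_of_isFlat S hS hF G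
    epi_g := (tensor_flip_exact_and_epi G S hS).2 }

/-- Symmetric version of `mono_tensor_map_of_isFlat`. -/
theorem mono_tensorBi_obj_map_of_isFlat (S : ShortComplex (ModSite.Mod O)) (hS : S.ShortExact)
    (hF : ModSite.IsFlat S.X₃) (G : ModSite.Mod O) :
    Mono (((ModSite.tensorBi O).obj G).map S.f) := by
  have := mono_tensor_map_of_isFlat S hS hF G
  have e : ((ModSite.tensorBi O).obj G).map S.f =
      (tensorBiObjIsoFlipObj O G).hom.app S.X₁ ≫ ((ModSite.tensorBi O).flip.obj G).map S.f ≫
        (tensorBiObjIsoFlipObj O G).inv.app S.X₂ := by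
    rw [← NatTrans.naturality_assoc, Iso.hom_inv_id_app, Category.comp_id]
  rw [e]
  infer_instance

/-- A module `X` is flat as soon as `- ⊗ X` preserves monomorphisms. -/
theorem isFlat_of_forall_mono (X : ModSite.Mod O)
    (h : ∀ E : ShortComplex (ModSite.Mod O), E.ShortExact →
      Mono (((ModSite.tensorBi O).flip.obj X).map E.f)) : ModSite.IsFlat X := by
  rw [isFlat_iff, Functor.preservesFiniteLimits_iff_forall_exact_map_and_mono]
  intro E hE
  exact ⟨(tensor_flip_exact_and_epi X E hE).1, h E hE⟩

lemma mono_flip_map_of_isFlat {X : ModSite.Mod O} (hX : ModSite.IsFlat X)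
    {A B : ModSite.Mod O} (f : A ⟶ B) [Mono f] :
    Mono (((ModSite.tensorBi O).flip.obj X).map f) := by
  have := hX.1
  infer_instance

/-- In a short exact sequence `0 → F₂ → F₁ → F₀ → 0` with `F₂` and `F₀` flat, `F₁` is flat. -/
theorem isFlat_of_shortExact_of_isFlat_outer (S : ShortComplex (ModSite.Mod O))
    (hS : S.ShortExact) (h₂ : ModSite.IsFlat S.X₁) (h₀ : ModSite.IsFlat S.X₃) :
    ModSite.IsFlat S.X₂ := by
  apply isFlat_of_forall_mono
  intro E hE
  have := hE.mono_f
  let T := ModSite.tensorBi O
  let φ : S.map (T.obj E.X₁) ⟶ S.map (T.obj E.X₂) := S.mapNatTrans (T.map E.f)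
  have h1 : (S.map (T.obj E.X₁)).Exact := (tensor_exact_and_epi E.X₁ S hS).1
  have : Mono (S.map (T.obj E.X₁)).f := mono_tensorBi_obj_map_of_isFlat S hS h₀ E.X₁
  have : Mono (S.map (T.obj E.X₂)).f := mono_tensorBi_obj_map_of_isFlat S hS h₀ E.X₂
  have : Mono φ.τ₁ := mono_flip_map_of_isFlat h₂ E.f
  have : Mono φ.τ₃ := mono_flip_map_of_isFlat h₀ E.f
  exact ShortComplex.mono_τ₂_of_exact_of_mono φ h1

/-- In a short exact sequence `0 → F₂ → F₁ → F₀ → 0` with `F₁` and `F₀` flat, `F₂` is flat. -/
theorem isFlat_of_shortExact_of_isFlat_mid_right (S : ShortComplex (ModSite.Mod O))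
    (hS : S.ShortExact) (h₁ : ModSite.IsFlat S.X₂) (h₀ : ModSite.IsFlat S.X₃) :
    ModSite.IsFlat S.X₁ := by
  apply isFlat_of_forall_mono
  intro E hE
  have := hE.mono_f
  let T := ModSite.tensorBi O
  have m1 : Mono ((T.obj E.X₁).map S.f) := mono_tensorBi_obj_map_of_isFlat S hS h₀ E.X₁
  have m2 : Mono ((T.flip.obj S.X₂).map E.f) := mono_flip_map_of_isFlat h₁ E.f
  have sq : (T.flip.obj S.X₁).map E.f ≫ (T.obj E.X₂).map S.f =
      (T.obj E.X₁).map S.f ≫ (T.flip.obj S.X₂).map E.f := ((T.map E.f).naturality S.f).symm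
  have : Mono ((T.flip.obj S.X₁).map E.f ≫ (T.obj E.X₂).map S.f) := by
    rw [sq]
    infer_instance
  exact mono_of_mono _ ((T.obj E.X₂).map S.f)

end Groth.Agent.H45
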