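import Groth.Agent.H45.SheafTensor.FlatOps

/-!
# A filtered colimit of flat modules is flat
-/

open CategoryTheory Limits Opposite MonoidalCategory

universe u

namespace Groth.Agent.H45

section General

universe v₁ v₂ v₃ u₁ u₂ u₃

/-- In a functor category whose target has exact colimits of shape `K`, a colimit of shape `K` of
functors preserving finite limits preserves finite limits. -/
theorem preservesFiniteLimits_of_isColimit {A : Type u₁} [Category.{v₁} A]
    {B : Type u₂} [Category.{v₂} B] {K : Type u₃} [Category.{v₃} K]
    [HasColimitsOfShape K B] [HasExactColimitsOfShape K B]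
    (Φ : K ⥤ (A ⥤ B)) (h : ∀ i, PreservesFiniteLimits (Φ.obj i)) (cc : Cocone Φ)
    (hcc : IsColimit cc) : PreservesFiniteLimits cc.pt := by
  have h1 : PreservesFiniteLimits Φ.flip := by
    refine ⟨fun K _ _ => ?_⟩
    apply preservesLimitsOfShape_of_evaluation
    intro i
    have := h i
    exact preservesLimitsOfShape_of_natIso (flipCompEvaluation Φ i).symm
  have h2 : PreservesFiniteLimits (colim : (K ⥤ B) ⥤ B) :=
    HasExactColimitsOfShape.preservesFiniteLimits
  have h3 : PreservesFiniteLimits (Φ.flip ⋙ colim) := inferInstance
  exact preservesFiniteLimits_of_natIso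
    ((colimitIsoFlipCompColim Φ).symm ≪≫ (hcc.coconePointUniqueUpToIso (colimit.isColimit Φ)).symm)

end General

variable {C : Type u} [SmallCategory C] {J : GrothendieckTopology C} {O : Sheaf J CommRingCat.{u}}

/-- A filtered colimit of flat modules is flat. -/
theorem isFlat_of_isColimit_filtered {I : Type u} [SmallCategory I] [IsFiltered I]
    (D : I ⥤ ModSite.Mod O) (hD : ∀ i, ModSite.IsFlat (D.obj i)) (c : Cocone D)
    (hc : IsColimit c) : ModSite.IsFlat c.pt := by
  rw [isFlat_iff]
  have hpres : PreservesColimit D (ModSite.tensorBi O).flip := by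
    apply preservesColimit_of_evaluation
    intro H
    exact preservesColimit_of_natIso _ (flipCompEvaluation (ModSite.tensorBi O) H).symm
  exact preservesFiniteLimits_of_isColimit
    (D ⋙ (ModSite.tensorBi O).flip) (fun i => (hD i).1)
    ((ModSite.tensorBi O).flip.mapCocone c) (isColimitOfPreserves _ hc)

end Groth.Agent.H45
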