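import Groth.Agent.H45.SheafTensor.LocalIso

/-!
# Sheafification inverts `φ ▷ Q` whenever it inverts `φ`
-/

open CategoryTheory Limits Opposite MonoidalCategory

universe u

namespace Groth.Agent.H45

variable {C : Type u} [SmallCategory C] {J : GrothendieckTopology C} (O : Sheaf J CommRingCat.{u})

/-- The category of presheaves of modules over the underlying presheaf of rings of `O`. -/
abbrev PMod : Type (u + 1) :=
  PresheafOfModules.{u} (O.obj ⋙ forget₂ CommRingCat.{u} RingCat.{u})

/-- Sheafification, as a functor from `PMod O`. -/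
noncomputable def shf : PMod O ⥤ ModSite.Mod O := ModSite.sheafify O

/-- The forgetful functor, as a functor to `PMod O`. -/
noncomputable def forg : ModSite.Mod O ⥤ PMod O := SheafOfModules.forget (ModSite.ringSh O)

/-- The sheafification adjunction. -/
noncomputable def shfAdj : shf O ⊣ forg O :=
  PresheafOfModules.sheafificationAdjunction (𝟙 (ModSite.ringSh O).obj)

instance : IsIso (shfAdj O).counit :=
  inferInstanceAs (IsIso (PresheafOfModules.sheafificationAdjunction
    (𝟙 (ModSite.ringSh O).obj)).counit)

instance : (forg O).Full := (shfAdj O).fullyFaithfulROfIsIsoCounit.full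

instance : (forg O).Faithful := (shfAdj O).fullyFaithfulROfIsIsoCounit.faithful

instance : (shf O).IsLeftAdjoint := (shfAdj O).isLeftAdjoint

instance : (forg O).IsRightAdjoint := (shfAdj O).isRightAdjoint

noncomputable instance : PreservesFiniteLimits (shf O) :=
  inferInstanceAs (PreservesFiniteLimits
    (PresheafOfModules.sheafification (𝟙 (ModSite.ringSh O).obj)))

variable {O}

lemma isLocallyInjective_iff_locInj {P P' : PMod O} (φ : P ⟶ P') :
    Presheaf.IsLocallyInjective J ((PresheafOfModules.toPresheaf _).map φ) ↔ LocInj J φ := by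
  constructor
  · intro h X x hx
    have := Presheaf.equalizerSieve_mem J ((PresheafOfModules.toPresheaf _).map φ)
      (X := op X) x 0 (hx.trans (map_zero _).symm)
    refine ⟨_, this, fun Y f hf => ?_⟩
    exact hf.trans (map_zero _)
  · intro h
    refine ⟨fun {X} x y hxy => ?_⟩
    obtain ⟨S, hS, hS'⟩ := h X.unop ((show P.obj X from x) - (show P.obj X from y)) (by
      have : φ.app X ((show P.obj X from x) - (show P.obj X from y)) =
        φ.app X x - φ.app X y := map_sub _ _ _
      rw [this]
      exact sub_eq_zero.2 hxy)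
    refine J.superset_covering ?_ hS
    intro Y f hf
    have := hS' f hf
    rw [res_sub, sub_eq_zero] at this
    exact this

lemma isLocallySurjective_iff_locSurj {P P' : PMod O} (φ : P ⟶ P') :
    Presheaf.IsLocallySurjective J ((PresheafOfModules.toPresheaf _).map φ) ↔ LocSurj J φ := by
  constructor
  · intro h X y
    exact ⟨Presheaf.imageSieve ((PresheafOfModules.toPresheaf _).map φ) (U := X) y,
      Presheaf.imageSieve_mem J ((PresheafOfModules.toPresheaf _).map φ) y,
      fun Y f hf => hf⟩
  · intro h
    refine ⟨fun {X} y => ?_⟩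
    obtain ⟨S, hS, hS'⟩ := h X y
    exact J.superset_covering (fun Y f hf => hS' f hf) hS

theorem isIso_shf_map_iff {P P' : PMod O} (φ : P ⟶ P') :
    IsIso ((shf O).map φ) ↔ LocInj J φ ∧ LocSurj J φ := by
  rw [← isIso_iff_of_reflects_iso _ (SheafOfModules.toSheaf (ModSite.ringSh O)),
    ← isLocallyInjective_iff_locInj, ← isLocallySurjective_iff_locSurj,
    ← GrothendieckTopology.W_iff_isLocallyBijective, GrothendieckTopology.W_iff]
  rfl

theorem isIso_shf_map_whiskerRight {P P' : PMod O} (φ : P ⟶ P')
    [h : IsIso ((shf O).map φ)] (Q : PMod O) :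
    IsIso ((shf O).map (φ ▷ Q)) := by
  rw [isIso_shf_map_iff] at h ⊢
  exact ⟨h.1.whiskerRight Q h.2, h.2.whiskerRight Q⟩

theorem isIso_shf_map_whiskerLeft {P P' : PMod O} (φ : P ⟶ P')
    [h : IsIso ((shf O).map φ)] (Q : PMod O) :
    IsIso ((shf O).map (Q ◁ φ)) := by
  have e : Q ◁ φ = (β_ P Q).inv ≫ (φ ▷ Q) ≫ (β_ P' Q).hom := by
    rw [BraidedCategory.braiding_naturality_left, Iso.inv_hom_id_assoc]
  have := isIso_shf_map_whiskerRight φ Q
  rw [e, Functor.map_comp, Functor.map_comp]
  infer_instance

/-- The unit of the sheafification adjunction is inverted by sheafification. -/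
instance isIso_shf_map_unit (P : PMod O) : IsIso ((shf O).map ((shfAdj O).unit.app P)) := by
  have := (shfAdj O).left_triangle_components P
  exact IsIso.of_isIso_fac_right this

end Groth.Agent.H45
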