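import Groth.Agent.H45.SheafTensor.StalkFlatConverse

/-!
# The single relation local equational criterion implies the one for finite systems of relations
-/

open CategoryTheory Limits Opposite

universe u

namespace Groth.Agent.H45

variable {C : Type u} [SmallCategory C] {J : GrothendieckTopology C} {R : Cᵒᵖ ⥤ CommRingCat.{u}}
  {Q : PresheafOfModules.{u} (R ⋙ forget₂ CommRingCat RingCat)}

/-- From one relation to `l` relations, indexed by `Fin n`. -/
theorem lmrFin_of_lmr1 (h : LMR1 J Q) (l : ℕ) :
    ∀ (U : C) (n : ℕ) (c : Fin n → Fin l → R.obj (op U)) (m : Fin n → Q.obj (op U)),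
    (∀ j, ∑ i, c i j • m i = 0) →
    ∃ S ∈ J U, ∀ ⦃V : C⦄ (g : V ⟶ U), S g →
      ∃ (k : ℕ) (α : Fin n → Fin k → R.obj (op V)) (μ : Fin k → Q.obj (op V)),
        (∀ i, res Q g (m i) = ∑ k', α i k' • μ k') ∧
        (∀ j k', ∑ i, α i k' * (R.map g.op).hom (c i j) = 0) := by
  classical
  induction l with
  | zero =>
    intro U n c m _
    refine ⟨⊤, J.top_mem U, fun V g _ => ⟨n, fun i k' => if i = k' then 1 else 0,
      fun k' => res Q g (m k'), fun i => ?_, fun j => Fin.elim0 j⟩⟩
    simp [Finset.sum_ite_eq]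
  | succ l ih =>
    intro U n c m hcm
    obtain ⟨S₁, hS₁, hS₁'⟩ := h U n (fun i => c i (Fin.last l)) m (hcm (Fin.last l))
    have key : ∀ ⦃V : C⦄ ⦃g : V ⟶ U⦄ (hg : S₁ g), ∃ T ∈ J V, ∀ ⦃W : C⦄ (h' : W ⟶ V), T h' →
        ∃ (k : ℕ) (α : Fin n → Fin k → R.obj (op W)) (μ : Fin k → Q.obj (op W)),
        (∀ i, res Q (h' ≫ g) (m i) = ∑ k', α i k' • μ k') ∧
        (∀ j k', ∑ i, α i k' * (R.map (h' ≫ g).op).hom (c i j) = 0) := by
      intro V g hg
      obtain ⟨k₁, α₁, μ₁, hμ₁, hα₁⟩ := hS₁' g hg
      obtain ⟨T, hT, hT'⟩ := ih V k₁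
        (fun p j => ∑ i, α₁ i p * (R.map g.op).hom (c i j.castSucc)) μ₁ (by
        intro j
        have := congrArg (res Q g) (hcm j.castSucc)
        rw [res_sum, res_zero] at this
        simp_rw [res_smul, hμ₁] at this
        rw [← this]
        simp_rw [Finset.sum_smul, Finset.smul_sum, smul_smul]
        rw [Finset.sum_comm]
        refine Finset.sum_congr rfl fun i _ => Finset.sum_congr rfl fun p _ => ?_
        rw [mul_comm])
      refine ⟨T, hT, fun W h' hh' => ?_⟩
      obtain ⟨k₂, α₂, μ₂, hμ₂, hα₂⟩ := hT' h' hh'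
      refine ⟨k₂, fun i q => ∑ p, (R.map h'.op).hom (α₁ i p) * α₂ p q, μ₂, fun i => ?_,
        fun j q => ?_⟩
      · rw [res_comp, hμ₁, res_sum]
        simp_rw [res_smul, hμ₂, Finset.smul_sum, Finset.sum_smul, smul_smul]
        rw [Finset.sum_comm]
      · have hcomp : ∀ x : R.obj (op U), (R.map (h' ≫ g).op).hom x =
            (R.map h'.op).hom ((R.map g.op).hom x) := by
          intro x
          rw [op_comp, R.map_comp]
          rfl
        simp_rw [hcomp]
        have hrew : ∑ i, (∑ p, (R.map h'.op).hom (α₁ i p) * α₂ p q) *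
            (R.map h'.op).hom ((R.map g.op).hom (c i j)) =
            ∑ p, α₂ p q * (R.map h'.op).hom (∑ i, α₁ i p * (R.map g.op).hom (c i j)) := by
          simp_rw [map_sum, map_mul, Finset.sum_mul, Finset.mul_sum]
          rw [Finset.sum_comm]
          refine Finset.sum_congr rfl fun p _ => Finset.sum_congr rfl fun i _ => ?_
          ring
        rw [hrew]
        induction j using Fin.lastCases with
        | last =>
          refine Finset.sum_eq_zero fun p _ => ?_
          rw [hα₁ p, map_zero, mul_zero]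
        | cast j' => exact hα₂ j' q
    choose T hT hT' using key
    refine ⟨Sieve.bind S₁ (fun V g hg => T hg), J.bind_covering hS₁ (fun V g hg => hT hg), ?_⟩
    rintro W f ⟨V, h', g, hg, hh', rfl⟩
    exact hT' hg h' hh'

/-- The single relation criterion implies the criterion for finite systems of relations. -/
theorem lmr_of_lmr1 (h : LMR1 J Q) : LMR J Q := by
  classical
  intro U ι _ l c m hcm
  let e := Fintype.equivFin ι
  obtain ⟨S, hS, hS'⟩ := lmrFin_of_lmr1 h l U (Fintype.card ι) (fun i j => c (e.symm i) j)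
    (fun i => m (e.symm i)) (by
      intro j
      rw [← hcm j]
      exact Equiv.sum_comp e.symm (fun i => c i j • m i))
  refine ⟨S, hS, fun V g hg => ?_⟩
  obtain ⟨k, α, μ, hμ, hα⟩ := hS' g hg
  refine ⟨k, fun i k' => α (e i) k', μ, fun i => ?_, fun j k' => ?_⟩
  · have := hμ (e i)
    simpa using this
  · rw [← hα j k', ← Equiv.sum_comp e]
    simp

end Groth.Agent.H45

namespace Groth.Agent.H45

variable {C : Type u} [SmallCategory C] {J : GrothendieckTopology C} {O : Sheaf J CommRingCat.{u}}

/-- A flat module on a ringed site satisfies the local equational criterion for finite systems of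
relations. -/
theorem lmr_of_isFlat (F : ModSite.Mod O) (hF : ModSite.IsFlat F) : LMR J ((forg O).obj F) :=
  lmr_of_lmr1 (fun U n c m hcm => lmr1_of_isFlat F hF U n c m hcm)

/-- Flatness is equivalent to the local equational criterion for finite systems of relations. -/
theorem isFlat_iff_lmr (F : ModSite.Mod O) : ModSite.IsFlat F ↔ LMR J ((forg O).obj F) :=
  ⟨lmr_of_isFlat F, isFlat_of_lmr F⟩

end Groth.Agent.H45
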