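import Groth.Prelude.Def_ModSite2
import Groth.Agent.H45.SheafTensor.LMR1toLMR

/-!
# Stalks of flat modules at points of a site are flat
-/

open CategoryTheory Limits Opposite

universe u

namespace Groth.Agent.H45

section Generic

variable {C : Type u} [SmallCategory C] {J : GrothendieckTopology C}
  (p : GrothendieckTopology.Point.{u} J)
  {A : Type (u + 1)} [Category.{u} A] [HasColimitsOfSize.{u, u} A]
  {FC : A → A → Type*} {CC : A → Type u}
  [∀ (X Y : A), FunLike (FC X Y) (CC X) (CC Y)]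
  [ConcreteCategory.{u} A FC] [PreservesFilteredColimitsOfSize.{u, u} (forget A)]

/-- Finitely many elements of the fibre of a presheaf at a point have representatives over a common
neighbourhood, which may be chosen to refine a given neighbourhood. -/
theorem exists_common_rep (P : Cᵒᵖ ⥤ A) (X₀ : C) (x₀ : p.fiber.obj X₀) (l : ℕ) :
    ∀ (f : Fin l → ToType (p.presheafFiber.obj P)),
    ∃ (X : C) (g : X ⟶ X₀) (x : p.fiber.obj X) (_ : p.fiber.map g x = x₀)
      (r : Fin l → ToType (P.obj (op X))), ∀ i, p.toPresheafFiber X x P (r i) = f i := by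
  induction l with
  | zero =>
    intro f
    exact ⟨X₀, 𝟙 X₀, x₀, by simp, Fin.elim0, fun i => Fin.elim0 i⟩
  | succ l ih =>
    intro f
    obtain ⟨X, g, x, hx, r, hr⟩ := ih (fun i => f i.succ)
    obtain ⟨Y, y, z, hz⟩ := p.toPresheafFiber_jointly_surjective (f 0)
    let W := IsCofiltered.min (Functor.elementsMk p.fiber X x) (Functor.elementsMk p.fiber Y y)
    let gX := IsCofiltered.minToLeft (Functor.elementsMk p.fiber X x)
      (Functor.elementsMk p.fiber Y y)
    let gY := IsCofiltered.minToRight (Functor.elementsMk p.fiber X x)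
      (Functor.elementsMk p.fiber Y y)
    refine ⟨W.1, gX.1 ≫ g, W.2, ?_, Fin.cons (P.map gY.1.op z) (fun i => P.map gX.1.op (r i)), ?_⟩
    · rw [Functor.map_comp_apply]
      exact (congrArg (p.fiber.map g) gX.2).trans hx
    · intro i
      induction i using Fin.cases with
      | zero =>
        rw [Fin.cons_zero]
        refine (p.toPresheafFiber_w_apply gY.1 W.2 P z).trans ?_
        exact (congrArg (fun t => p.toPresheafFiber Y t P z) gY.2).trans hz
      | succ i =>
        rw [Fin.cons_succ]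
        refine (p.toPresheafFiber_w_apply gX.1 W.2 P (r i)).trans ?_
        exact (congrArg (fun t => p.toPresheafFiber X t P (r i)) gX.2).trans (hr i)

end Generic

section Main

variable {C : Type u} [SmallCategory C] {J : GrothendieckTopology C} {O : Sheaf J CommRingCat.{u}}
  (p : GrothendieckTopology.Point.{u} J)

/-- The germ of a section of (the underlying presheaf of modules of) a sheaf of modules. -/
noncomputable def pgM (F : ModSite.Mod O) (X : C) (x : p.fiber.obj X)
    (s : ((forg O).obj F).obj (op X)) : ModSite.stalkAb p F :=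
  ModSite.germ p F X x s

/-- The germ of a section of the structure sheaf. -/
noncomputable def pgR (X : C) (x : p.fiber.obj X) (r : O.obj.obj (op X)) : ModSite.stalkRing p O :=
  ModSite.germRing p X x r

lemma pgM_res (F : ModSite.Mod O) {X Y : C} (g : Y ⟶ X) (y : p.fiber.obj Y)
    (s : ((forg O).obj F).obj (op X)) :
    pgM p F Y y (res ((forg O).obj F) g s) = pgM p F X (p.fiber.map g y) s :=
  p.toPresheafFiber_w_apply g y (ModSite.toAb F).obj s

lemma pgR_res {X Y : C} (g : Y ⟶ X) (y : p.fiber.obj Y) (r : O.obj.obj (op X)) :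
    pgR p Y y ((O.obj.map g.op).hom r) = pgR p X (p.fiber.map g y) r :=
  p.toPresheafFiber_w_apply g y O.obj r

lemma pgM_sum (F : ModSite.Mod O) (X : C) (x : p.fiber.obj X) {ι : Type*} (s : Finset ι)
    (m : ι → ((forg O).obj F).obj (op X)) :
    pgM p F X x (∑ i ∈ s, m i) = ∑ i ∈ s, pgM p F X x (m i) :=
  map_sum (p.toPresheafFiber X x (ModSite.toAb F).obj).hom m s

lemma pgM_zero (F : ModSite.Mod O) (X : C) (x : p.fiber.obj X) :
    pgM p F X x 0 = 0 :=
  map_zero (p.toPresheafFiber X x (ModSite.toAb F).obj).hom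

lemma pgM_smul (F : ModSite.Mod O) (X : C) (x : p.fiber.obj X) (r : O.obj.obj (op X))
    (s : ((forg O).obj F).obj (op X)) :
    pgM p F X x (r • s) = pgR p X x r • pgM p F X x s :=
  ModSite.germ_smul p F X x r s

lemma pgR_sum (X : C) (x : p.fiber.obj X) {ι : Type*} (s : Finset ι)
    (m : ι → O.obj.obj (op X)) :
    pgR p X x (∑ i ∈ s, m i) = ∑ i ∈ s, pgR p X x (m i) :=
  map_sum (p.toPresheafFiber X x O.obj).hom m s

lemma pgR_zero (X : C) (x : p.fiber.obj X) : pgR (O := O) p X x 0 = 0 :=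
  map_zero (p.toPresheafFiber X x O.obj).hom

lemma pgR_mul (X : C) (x : p.fiber.obj X) (a b : O.obj.obj (op X)) :
    pgR p X x (a * b) = pgR p X x a * pgR p X x b :=
  map_mul (p.toPresheafFiber X x O.obj).hom a b

lemma exists_pgR_common (X₀ : C) (x₀ : p.fiber.obj X₀) (l : ℕ) (f : Fin l → ModSite.stalkRing p O) :
    ∃ (X : C) (g : X ⟶ X₀) (x : p.fiber.obj X) (_ : p.fiber.map g x = x₀)
      (r : Fin l → O.obj.obj (op X)), ∀ i, pgR p X x (r i) = f i :=
  exists_common_rep p O.obj X₀ x₀ l f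

lemma exists_pgM_common (F : ModSite.Mod O) (X₀ : C) (x₀ : p.fiber.obj X₀) (l : ℕ)
    (f : Fin l → ModSite.stalkAb p F) :
    ∃ (X : C) (g : X ⟶ X₀) (x : p.fiber.obj X) (_ : p.fiber.map g x = x₀)
      (r : Fin l → ((forg O).obj F).obj (op X)), ∀ i, pgM p F X x (r i) = f i :=
  exists_common_rep p (ModSite.toAb F).obj X₀ x₀ l f

lemma exists_res_eq_of_pgM_eq (F : ModSite.Mod O) (X : C) (x : p.fiber.obj X)
    (s₁ s₂ : ((forg O).obj F).obj (op X)) (h : pgM p F X x s₁ = pgM p F X x s₂) :
    ∃ (Y : C) (g : Y ⟶ X) (y : p.fiber.obj Y), p.fiber.map g y = x ∧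
      res ((forg O).obj F) g s₁ = res ((forg O).obj F) g s₂ :=
  (p.toPresheafFiber_eq_iff' (P := (ModSite.toAb F).obj) X x s₁ s₂).1 h

/-- A relation in the stalk of a sheaf of modules satisfying the local equational criterion is
trivial. -/
theorem isTrivialRelation_stalk (F : ModSite.Mod O) (h : LMR1 J ((forg O).obj F)) (l : ℕ)
    (f : Fin l → ModSite.stalkRing p O) (t : Fin l → ModSite.stalkAb p F)
    (hft : ∑ i, f i • t i = 0) :
    ∃ (k : ℕ) (a : Fin l → Fin k → ModSite.stalkRing p O) (y : Fin k → ModSite.stalkAb p F),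
      (∀ i, t i = ∑ j, a i j • y j) ∧ ∀ j, ∑ i, f i * a i j = 0 := by
  obtain ⟨⟨X₀, x₀⟩⟩ := IsCofiltered.nonempty (C := p.fiber.Elements)
  obtain ⟨X₁, g₁, x₁, hx₁, r₁, hr₁⟩ := exists_pgR_common p X₀ x₀ l f
  obtain ⟨X₂, g₂, x₂, hx₂, m₂, hm₂⟩ := exists_pgM_common p F X₁ x₁ l t
  let F' := (forg O).obj F
  let r₂ : Fin l → O.obj.obj (op X₂) := fun i => (O.obj.map g₂.op).hom (r₁ i)
  have hr₂ : ∀ i, pgR p X₂ x₂ (r₂ i) = f i := fun i =>
    (pgR_res p g₂ x₂ (r₁ i)).trans
      ((congrArg (fun z => pgR p X₁ z (r₁ i)) hx₂).trans (hr₁ i))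
  -- the relation holds on a smaller neighbourhood
  have hgerm : pgM p F X₂ x₂ (∑ i, r₂ i • m₂ i) = pgM p F X₂ x₂ 0 := by
    rw [pgM_zero, pgM_sum, ← hft]
    refine Finset.sum_congr rfl (fun i _ => ?_)
    rw [pgM_smul, hr₂, hm₂]
  obtain ⟨Y, g, y, hy, hYeq⟩ := exists_res_eq_of_pgM_eq p F X₂ x₂ _ _ hgerm
  let r₃ : Fin l → O.obj.obj (op Y) := fun i => (O.obj.map g.op).hom (r₂ i)
  let m₃ : Fin l → F'.obj (op Y) := fun i => res F' g (m₂ i)
  have hrel : ∑ i, r₃ i • m₃ i = 0 := by
    rw [res_zero, res_sum] at hYeq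
    rw [← hYeq]
    refine Finset.sum_congr rfl (fun i _ => ?_)
    rw [res_smul]
  have hr₃ : ∀ i, pgR p Y y (r₃ i) = f i := fun i =>
    (pgR_res p g y (r₂ i)).trans
      ((congrArg (fun z => pgR p X₂ z (r₂ i)) hy).trans (hr₂ i))
  have hm₃ : ∀ i, pgM p F Y y (m₃ i) = t i := fun i =>
    (pgM_res p F g y (m₂ i)).trans
      ((congrArg (fun z => pgM p F X₂ z (m₂ i)) hy).trans (hm₂ i))
  -- apply the local criterion
  obtain ⟨S, hS, hS'⟩ := h Y l r₃ m₃ hrel
  obtain ⟨V, e, he, v, hv⟩ := p.jointly_surjective S hS y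
  obtain ⟨k, α, μ, h1, h2⟩ := hS' e he
  refine ⟨k, fun i j => pgR p V v (α i j), fun j => pgM p F V v (μ j),
    fun i => ?_, fun j => ?_⟩
  · have e1 : pgM p F V v (res F' e (m₃ i)) = t i :=
      (pgM_res p F e v (m₃ i)).trans
        ((congrArg (fun z => pgM p F Y z (m₃ i)) hv).trans (hm₃ i))
    rw [← e1, h1 i, pgM_sum]
    refine Finset.sum_congr rfl (fun j _ => ?_)
    rw [pgM_smul]
  · have := congrArg (pgR p V v) (h2 j)
    rw [pgR_zero, pgR_sum] at this
    rw [← this]
    refine Finset.sum_congr rfl (fun i _ => ?_)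
    rw [pgR_mul, pgR_res p e v, hv, hr₃, mul_comm]

/-- A sheaf of modules on a ringed site which satisfies the (single relation) local equational
criterion has flat stalks at all points of the site. -/
theorem flat_stalk_of_lmr1_point (F : ModSite.Mod O) (h : LMR1 J ((forg O).obj F)) :
    Module.Flat (ModSite.stalkRing p O) (ModSite.stalkMod p F) := by
  apply Module.Flat.of_forall_isTrivialRelation
  intro l f t hft
  exact isTrivialRelation_stalk p F h l f t hft

/-- The stalks of a flat module at the points of the site are flat. -/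
theorem flat_stalk_of_isFlat (F : ModSite.Mod O) (hF : ModSite.IsFlat F) :
    Module.Flat (ModSite.stalkRing p O) (ModSite.stalkMod p F) :=
  flat_stalk_of_lmr1_point p F (fun U n c m hcm => lmr1_of_isFlat F hF U n c m hcm)

end Main

end Groth.Agent.H45
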