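import Groth.Agent.H45.SheafTensor.FlatExact

/-!
# The local equational criterion implies flatness
-/

open CategoryTheory Limits Opposite MonoidalCategory

universe u

namespace Groth.Agent.H45

section Presheaf

variable {C : Type u} [SmallCategory C] (J : GrothendieckTopology C) {R : Cᵒᵖ ⥤ CommRingCat.{u}}

/-- The local equational criterion of flatness for a presheaf of modules, for finite systems of
relations: every finite system of relations `∑ i, c i j • m i = 0` becomes trivial locally. -/
def LMR (Q : PresheafOfModules.{u} (R ⋙ forget₂ CommRingCat RingCat)) : Prop :=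
  ∀ (U : C) (ι : Type) [Fintype ι] (l : ℕ) (c : ι → Fin l → R.obj (op U)) (m : ι → Q.obj (op U)),
    (∀ j, ∑ i, c i j • m i = 0) →
    ∃ S ∈ J U, ∀ ⦃V : C⦄ (g : V ⟶ U), S g →
      ∃ (k : ℕ) (α : ι → Fin k → R.obj (op V)) (μ : Fin k → Q.obj (op V)),
        (∀ i, res Q g (m i) = ∑ k', α i k' • μ k') ∧
        (∀ j k', ∑ i, α i k' * (R.map g.op).hom (c i j) = 0)

variable {J}
variable {P P' : PresheafOfModules.{u} (R ⋙ forget₂ CommRingCat RingCat)} {φ : P ⟶ P'}
  {Q : PresheafOfModules.{u} (R ⋙ forget₂ CommRingCat RingCat)}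

theorem LocInj.whiskerRight_of_lmr (hφ : ∀ X : C, Function.Injective (φ.app (op X)))
    (hQ : LMR J Q) : LocInj J (φ ▷ Q) := by
  intro X x hx
  obtain ⟨ι, _, l, q, p, p', a, hxsum, h₁, h₂⟩ :=
    exists_trivial_vanishing' (φ.app (op X)).hom x hx
  have hxsum' : x = ∑ i, tmulS Q (p i) (q i) := hxsum
  subst hxsum'
  obtain ⟨S, hS, hS'⟩ := hQ X ι l a q h₂
  refine LocZero.of_locally S hS (fun Y f hf => ?_)
  obtain ⟨k, α, μ, hμ, hα⟩ := hS' f hf
  -- the elements `∑ i, α i k • res (p i)` vanish
  have hz : ∀ k', ∑ i, α i k' • res P f (p i) = 0 := by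
    intro k'
    apply hφ Y
    rw [map_zero, map_sum]
    have e : ∀ i, φ.app (op Y) (α i k' • res P f (p i)) =
        ∑ j, (α i k' * (R.map f.op).hom (a i j)) • res P' f (p' j) := by
      intro i
      rw [map_smul, res_naturality]
      have e' : φ.app (op X) (p i) = ∑ j, a i j • p' j := h₁ i
      rw [e', res_sum, Finset.smul_sum]
      refine Finset.sum_congr rfl (fun j _ => ?_)
      rw [res_smul, smul_smul]
    rw [Finset.sum_congr rfl (fun i _ => e i), Finset.sum_comm]
    refine Finset.sum_eq_zero (fun j _ => ?_)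
    rw [← Finset.sum_smul, hα j k', zero_smul]
  have key : res (P ⊗ Q) f (∑ i, tmulS Q (p i) (q i)) = 0 := by
    rw [res_sum]
    have e1 : ∀ i, res (P ⊗ Q) f (tmulS Q (p i) (q i)) =
        ∑ k', tmulS Q (α i k' • res P f (p i)) (μ k') := by
      intro i
      rw [res_tmulS, hμ i]
      simp only [tmulS, TensorProduct.tmul_sum, TensorProduct.tmul_smul, TensorProduct.smul_tmul']
      rfl
    rw [Finset.sum_congr rfl (fun i _ => e1 i), Finset.sum_comm]
    refine Finset.sum_eq_zero (fun k' _ => ?_)
    have e2 : ∑ i, tmulS Q (α i k' • res P f (p i)) (μ k') =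
        tmulS Q (∑ i, α i k' • res P f (p i)) (μ k') :=
      (TensorProduct.sum_tmul (R := R.obj (op Y)) Finset.univ
        (fun i => α i k' • res P f (p i)) (μ k')).symm
    rw [e2, hz k', tmulS_zero_left]
  rw [key]
  exact LocZero.zero Y

end Presheaf

section Sheaf

variable {C : Type u} [SmallCategory C] {J : GrothendieckTopology C} {O : Sheaf J CommRingCat.{u}}

/-- Sheafification sends locally injective maps to monomorphisms. -/
theorem mono_shf_map_of_locInj {P P' : PMod O} (ψ : P ⟶ P') (h : LocInj J ψ) :
    Mono ((shf O).map ψ) := by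
  have fac : Abelian.factorThruImage ψ ≫ Abelian.image.ι ψ = ψ := Abelian.image.fac ψ
  have he : IsIso ((shf O).map (Abelian.factorThruImage ψ)) := by
    rw [isIso_shf_map_iff]
    constructor
    · intro X x hx
      apply h X x
      have : ψ.app (op X) x =
          (Abelian.image.ι ψ).app (op X) ((Abelian.factorThruImage ψ).app (op X) x) := by
        conv_lhs => rw [← fac]
        rfl
      rw [this, hx, map_zero]
    · intro X y
      obtain ⟨x, hx⟩ := PresheafOfModules.surjective_of_epi (Abelian.factorThruImage ψ) (op X) y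
      refine ⟨⊤, J.top_mem X, fun Y f _ => ⟨res P f x, ?_⟩⟩
      rw [res_naturality, hx]
  have hm : Mono ((shf O).map (Abelian.image.ι ψ)) := inferInstance
  rw [← fac, Functor.map_comp]
  infer_instance

/-- The local equational criterion (for finite systems of relations) implies flatness. -/
theorem isFlat_of_lmr (F : ModSite.Mod O) (hF : LMR J ((forg O).obj F)) : ModSite.IsFlat F := by
  apply isFlat_of_forall_mono
  intro E hE
  have := hE.mono_f
  have hinj : ∀ X : C, Function.Injective (((forg O).map E.f).app (op X)) := by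
    have : Mono ((forg O).map E.f) := inferInstance
    intro X
    exact PresheafOfModules.injective_of_mono _ (op X)
  exact mono_shf_map_of_locInj _ (LocInj.whiskerRight_of_lmr hinj hF)

end Sheaf

end Groth.Agent.H45
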