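import Groth.Agent.H45.SheafTensor.Basic
import Mathlib.RingTheory.Flat.CategoryTheory

/-!
# Flat sheaves of modules on a ringed site: basic criteria and flat covers
-/

open CategoryTheory Limits Opposite MonoidalCategory

universe u

namespace Groth.Agent.H45

variable {C : Type u} [SmallCategory C] {J : GrothendieckTopology C} (O : Sheaf J CommRingCat.{u})

variable {O} in
theorem isFlat_iff (F : ModSite.Mod O) :
    ModSite.IsFlat F ↔ PreservesFiniteLimits ((ModSite.tensorBi O).flip.obj F) :=
  ⟨fun h => h.1, fun h => ⟨h, PreservesColimitsOfSize.preservesFiniteColimits _⟩⟩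

/-- `G ⊗ a(P) ≅ a(G ⊗ P)`, naturally in the sheaf `G`. -/
noncomputable def tensorRightShfIso (P : PMod O) :
    forg O ⋙ tensorRight P ⋙ shf O ≅
      forg O ⋙ tensorRight ((forg O).obj ((shf O).obj P)) ⋙ shf O :=
  haveI : ∀ G : ModSite.Mod O, IsIso ((shf O).map ((forg O).obj G ◁ (shfAdj O).unit.app P)) :=
    fun G => isIso_shf_map_whiskerLeft _ _
  NatIso.ofComponents
    (fun G => asIso ((shf O).map ((forg O).obj G ◁ (shfAdj O).unit.app P))) (by
      intro G G' f
      dsimp
      rw [← Functor.map_comp, ← Functor.map_comp, whisker_exchange])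

/-- `a(P) ⊗ G ≅ a(P ⊗ G)`, naturally in the sheaf `G`. -/
noncomputable def tensorLeftShfIso (P : PMod O) :
    forg O ⋙ tensorLeft P ⋙ shf O ≅
      forg O ⋙ tensorLeft ((forg O).obj ((shf O).obj P)) ⋙ shf O :=
  haveI : ∀ G : ModSite.Mod O, IsIso ((shf O).map ((shfAdj O).unit.app P ▷ (forg O).obj G)) :=
    fun G => isIso_shf_map_whiskerRight _ _
  NatIso.ofComponents
    (fun G => asIso ((shf O).map ((shfAdj O).unit.app P ▷ (forg O).obj G))) (by
      intro G G' f
      dsimp
      rw [← Functor.map_comp, ← Functor.map_comp, whisker_exchange])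

/-- The sectionwise tensor product with a sectionwise flat presheaf of modules is left exact. -/
theorem preservesFiniteLimits_tensorRight_of_flat_sections (P : PMod O)
    (hP : ∀ X : Cᵒᵖ, Module.Flat (O.obj.obj X) (P.obj X)) :
    PreservesFiniteLimits (tensorRight P) := by
  refine ⟨fun K _ _ => ⟨fun {G} => ⟨fun {c} hc => ⟨?_⟩⟩⟩⟩
  apply PresheafOfModules.evaluationJointlyReflectsLimits
  intro X
  haveI := hP X
  exact isLimitOfPreserves (tensorRight (show ModuleCat (O.obj.obj X) from P.obj X))
    (isLimitOfPreserves (PresheafOfModules.evaluation _ X) hc)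

/-- The sheafification of a sectionwise flat presheaf of modules is a flat sheaf of modules. -/
theorem isFlat_shf_of_flat_sections (P : PMod O)
    (hP : ∀ X : Cᵒᵖ, Module.Flat (O.obj.obj X) (P.obj X)) :
    ModSite.IsFlat ((shf O).obj P) := by
  rw [isFlat_iff, tensorBi_flip_obj]
  have := preservesFiniteLimits_tensorRight_of_flat_sections O P hP
  have : PreservesFiniteLimits (forg O ⋙ tensorRight P ⋙ shf O) := by
    have : PreservesLimitsOfSize.{0, 0} (forg O) := (shfAdj O).rightAdjoint_preservesLimits
    have : PreservesFiniteLimits (forg O) := PreservesLimitsOfSize.preservesFiniteLimits _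
    infer_instance
  exact preservesFiniteLimits_of_natIso (tensorRightShfIso O P)

/-- Every sheaf of modules is a quotient of a flat sheaf of modules. -/
theorem exists_flat_cover (F : ModSite.Mod O) :
    ∃ (G : ModSite.Mod O) (π : G ⟶ F), ModSite.IsFlat G ∧ Epi π := by
  let P : PMod O := (forg O).obj F
  let T : Cᵒᵖ ⥤ Type u := P.presheaf ⋙ forget _
  let L : PMod O := PresheafOfModules.freeObj T
  let ε : L ⟶ P := PresheafOfModules.freeObjDesc (𝟙 T)
  have hε : Epi ε := by
    apply PresheafOfModules.epi_of_surjective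
    intro X x
    exact ⟨ModuleCat.freeMk x, ModuleCat.freeDesc_apply _ x⟩
  refine ⟨(shf O).obj L, (shf O).map ε ≫ (shfAdj O).counit.app F, ?_, ?_⟩
  · apply isFlat_shf_of_flat_sections
    intro X
    exact inferInstanceAs (Module.Flat (O.obj.obj X) (T.obj X →₀ O.obj.obj X))
  · have : Epi ((shf O).map ε) := inferInstance
    infer_instance

end Groth.Agent.H45
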