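import Mathlib.LinearAlgebra.TensorProduct.Vanishing
import Mathlib.LinearAlgebra.TensorProduct.Finiteness
import Mathlib.RingTheory.TensorProduct.DirectLimitFG

/-!
# A general form of the equational criterion for vanishing of tensors

If `x : M ⊗ N₀` dies in `M ⊗ N` under `id ⊗ f`, then `x` can be written as `∑ mᵢ ⊗ nᵢ` such that
`∑ mᵢ ⊗ f nᵢ` vanishes trivially.
-/

namespace Groth.Agent.H45

open TensorProduct

theorem exists_trivial_vanishing {R : Type*} [CommRing R] {M N₀ N : Type*}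
    [AddCommGroup M] [Module R M] [AddCommGroup N₀] [Module R N₀] [AddCommGroup N] [Module R N]
    (f : N₀ →ₗ[R] N) (x : M ⊗[R] N₀) (h : LinearMap.lTensor M f x = 0) :
    ∃ (ι : Type) (_ : Fintype ι) (l : ℕ) (m : ι → M) (n₀ : ι → N₀) (y : Fin l → N)
      (a : ι → Fin l → R),
      x = ∑ i, m i ⊗ₜ[R] n₀ i ∧ (∀ i, f (n₀ i) = ∑ j, a i j • y j) ∧
        (∀ j, ∑ i, a i j • m i = 0) := by
  classical
  obtain ⟨k₀, m₀, n₀, rfl⟩ := TensorProduct.exists_sum_tmul_eq x
  simp only [map_sum, LinearMap.lTensor_tmul] at h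
  -- the span of the `m₀ i`
  set P₀ : Submodule R M := Submodule.span R (Set.range m₀) with hP₀
  have hP₀fg : P₀.FG := Submodule.fg_span (Set.finite_range m₀)
  have mem₀ : ∀ i, m₀ i ∈ P₀ := fun i => Submodule.subset_span ⟨i, rfl⟩
  let t : P₀ ⊗[R] N := ∑ i, (⟨m₀ i, mem₀ i⟩ : P₀) ⊗ₜ[R] f (n₀ i)
  have ht : LinearMap.rTensor N P₀.subtype t = 0 := by
    simp only [t, map_sum, LinearMap.rTensor_tmul, Submodule.subtype_apply]
    exact h
  obtain ⟨Q, hPQ, hQfg, hQ⟩ := TensorProduct.eq_zero_of_fg_of_subtype_eq_zero hP₀fg ht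
  obtain ⟨r, g, hg⟩ := (Submodule.fg_iff_exists_fin_generating_family).1 hQfg
  have memg : ∀ s, g s ∈ Q := fun s => hg ▸ Submodule.subset_span ⟨s, rfl⟩
  let mt : Fin k₀ ⊕ Fin r → Q := Sum.elim (fun i => ⟨m₀ i, hPQ (mem₀ i)⟩) (fun s => ⟨g s, memg s⟩)
  let nt : Fin k₀ ⊕ Fin r → N := Sum.elim (fun i => f (n₀ i)) (fun _ => 0)
  have hspan : Submodule.span R (Set.range mt) = ⊤ := by
    apply Submodule.map_injective_of_injective (Submodule.injective_subtype Q)
    rw [Submodule.map_span, Submodule.map_top, Submodule.range_subtype, ← Set.range_comp]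
    apply le_antisymm
    · rw [Submodule.span_le]
      rintro _ ⟨i, rfl⟩
      exact (mt i).2
    · conv_lhs => rw [← hg]
      apply Submodule.span_mono
      rintro _ ⟨s, rfl⟩
      exact ⟨Sum.inr s, rfl⟩
  have hsum : ∑ i, mt i ⊗ₜ[R] nt i = (0 : Q ⊗[R] N) := by
    rw [Fintype.sum_sum_type]
    simp only [mt, nt, Sum.elim_inl, Sum.elim_inr, tmul_zero, Finset.sum_const_zero, add_zero]
    have hQ' := hQ
    simp only [t, map_sum, LinearMap.rTensor_tmul] at hQ'
    exact hQ'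
  obtain ⟨l, a, y, h₁, h₂⟩ := TensorProduct.vanishesTrivially_of_sum_tmul_eq_zero R hspan hsum
  refine ⟨Fin k₀ ⊕ Fin r, inferInstance, l, Sum.elim m₀ g, Sum.elim n₀ (fun _ => 0), y, a, ?_, ?_, ?_⟩
  · rw [Fintype.sum_sum_type]
    simp
  · rintro (i | s)
    · simpa [nt] using h₁ (Sum.inl i)
    · simpa [nt] using h₁ (Sum.inr s)
  · intro j
    have := congrArg (Submodule.subtype Q) (h₂ j)
    simp only [map_sum, map_smul, map_zero] at this
    rw [← this]
    refine Finset.sum_congr rfl ?_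
    rintro (i | s) _ <;> simp [mt]

theorem exists_trivial_vanishing' {R : Type*} [CommRing R] {M N₀ N : Type*}
    [AddCommGroup M] [Module R M] [AddCommGroup N₀] [Module R N₀] [AddCommGroup N] [Module R N]
    (f : N₀ →ₗ[R] N) (x : N₀ ⊗[R] M) (h : LinearMap.rTensor M f x = 0) :
    ∃ (ι : Type) (_ : Fintype ι) (l : ℕ) (m : ι → M) (n₀ : ι → N₀) (y : Fin l → N)
      (a : ι → Fin l → R),
      x = ∑ i, n₀ i ⊗ₜ[R] m i ∧ (∀ i, f (n₀ i) = ∑ j, a i j • y j) ∧
        (∀ j, ∑ i, a i j • m i = 0) := by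
  have h' : LinearMap.lTensor M f (TensorProduct.comm R N₀ M x) = 0 := by
    have : LinearMap.lTensor M f ∘ₗ (TensorProduct.comm R N₀ M).toLinearMap =
        (TensorProduct.comm R N M).toLinearMap ∘ₗ LinearMap.rTensor M f := by
      ext a b
      simp
    have h2 := LinearMap.congr_fun this x
    simp only [LinearMap.coe_comp, LinearEquiv.coe_coe, Function.comp_apply] at h2
    rw [h2, h, map_zero]
  obtain ⟨ι, hι, l, m, n₀, y, a, hx, h₁, h₂⟩ := exists_trivial_vanishing f _ h'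
  refine ⟨ι, hι, l, m, n₀, y, a, ?_, h₁, h₂⟩
  apply (TensorProduct.comm R N₀ M).injective
  rw [hx, map_sum]
  simp

theorem sum_tmul_eq_of_relations {A : Type*} [CommRing A] {M N : Type*}
    [AddCommGroup M] [Module A M] [AddCommGroup N] [Module A N] {ι κ : Type*} [Fintype ι]
    [Fintype κ] (d : ι → M) (p : κ → M) (c : ι → κ → A) (n : ι → N)
    (h : ∀ j, ∑ i, c i j • n i = 0) :
    ∑ i, (d i + ∑ j, c i j • p j) ⊗ₜ[A] n i = ∑ i, d i ⊗ₜ[A] n i := by
  simp only [add_tmul, sum_tmul, Finset.sum_add_distrib]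
  rw [Finset.sum_comm]
  have : ∀ j, ∑ i, (c i j • p j) ⊗ₜ[A] n i = 0 := by
    intro j
    simp only [smul_tmul]
    rw [← tmul_sum, h j, tmul_zero]
  rw [Finset.sum_congr rfl (fun j _ => this j), Finset.sum_const_zero, add_zero]

end Groth.Agent.H45
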