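import Groth.Prelude.Def_ModSite
import Groth.Agent.H45.SheafTensor.Vanishing

/-!
# Local isomorphisms of presheaves of modules are preserved by the sectionwise tensor product
-/

open CategoryTheory Limits Opposite MonoidalCategory

universe u

namespace Groth.Agent.H45

variable {C : Type u} [SmallCategory C] (J : GrothendieckTopology C) {R : Cᵒᵖ ⥤ CommRingCat.{u}}

section

variable {P P' Q : PresheafOfModules.{u} (R ⋙ forget₂ CommRingCat RingCat)}

/-- Restriction of sections, with values in the module `P.obj (op Y)` (and not its restriction of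
scalars). -/
noncomputable def res (P : PresheafOfModules.{u} (R ⋙ forget₂ CommRingCat RingCat)) {X Y : C} (f : Y ⟶ X)
    (x : P.obj (op X)) : P.obj (op Y) := P.map f.op x

@[simp] lemma res_zero {X Y : C} (f : Y ⟶ X) : res P f 0 = 0 := map_zero (P.map f.op).hom

lemma res_add {X Y : C} (f : Y ⟶ X) (x y : P.obj (op X)) :
    res P f (x + y) = res P f x + res P f y := map_add (P.map f.op).hom x y

lemma res_sub {X Y : C} (f : Y ⟶ X) (x y : P.obj (op X)) :
    res P f (x - y) = res P f x - res P f y := map_sub (P.map f.op).hom x y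

lemma res_sum {X Y : C} (f : Y ⟶ X) {ι : Type*} (s : Finset ι) (x : ι → P.obj (op X)) :
    res P f (∑ i ∈ s, x i) = ∑ i ∈ s, res P f (x i) := map_sum (P.map f.op).hom x s

lemma res_smul {X Y : C} (f : Y ⟶ X) (r : R.obj (op X)) (x : P.obj (op X)) :
    res P f (r • x) = (R.map f.op).hom r • res P f x :=
  PresheafOfModules.map_smul P f.op r x

lemma res_comp {X Y Z : C} (f : Y ⟶ X) (g : Z ⟶ Y) (x : P.obj (op X)) :
    res P (g ≫ f) x = res P g (res P f x) := by
  unfold res
  rw [op_comp, P.map_comp]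
  rfl

lemma res_naturality (φ : P ⟶ P') {X Y : C} (f : Y ⟶ X) (x : P.obj (op X)) :
    φ.app (op Y) (res P f x) = res P' f (φ.app (op X) x) :=
  PresheafOfModules.naturality_apply φ f.op x

/-- The section `x` of `P` over `X` is locally zero. -/
def LocZero (P : PresheafOfModules.{u} (R ⋙ forget₂ CommRingCat RingCat)) (X : C)
    (x : P.obj (op X)) : Prop :=
  ∃ S ∈ J X, ∀ ⦃Y : C⦄ (f : Y ⟶ X), S f → res P f x = 0

/-- The section `y` of `P'` over `X` is locally in the image of `φ`. -/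
def LocIm (φ : P ⟶ P') (X : C) (y : P'.obj (op X)) : Prop :=
  ∃ S ∈ J X, ∀ ⦃Y : C⦄ (f : Y ⟶ X), S f → ∃ x : P.obj (op Y), φ.app (op Y) x = res P' f y

/-- Elementwise local injectivity. -/
def LocInj (φ : P ⟶ P') : Prop :=
  ∀ (X : C) (x : P.obj (op X)), φ.app (op X) x = 0 → LocZero J P X x

/-- Elementwise local surjectivity. -/
def LocSurj (φ : P ⟶ P') : Prop := ∀ (X : C) (y : P'.obj (op X)), LocIm J φ X y

variable {J}

lemma LocZero.zero (X : C) : LocZero J P X 0 :=
  ⟨⊤, J.top_mem X, fun _ _ _ => res_zero _⟩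

lemma LocZero.add {X : C} {x y : P.obj (op X)} (hx : LocZero J P X x) (hy : LocZero J P X y) :
    LocZero J P X (x + y) := by
  obtain ⟨S, hS, h₁⟩ := hx
  obtain ⟨T, hT, h₂⟩ := hy
  refine ⟨S ⊓ T, J.intersection_covering hS hT, fun Y f hf => ?_⟩
  rw [res_add, h₁ f hf.1, h₂ f hf.2, add_zero]

lemma LocZero.sum {X : C} {ι : Type*} (s : Finset ι) (x : ι → P.obj (op X))
    (hx : ∀ i ∈ s, LocZero J P X (x i)) : LocZero J P X (∑ i ∈ s, x i) := by
  classical
  induction s using Finset.induction_on with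
  | empty => simpa using LocZero.zero X
  | insert i s hi ih =>
    rw [Finset.sum_insert hi]
    exact (hx i (Finset.mem_insert_self i s)).add
      (ih fun j hj => hx j (Finset.mem_insert_of_mem hj))

lemma LocZero.res {X Y : C} (f : Y ⟶ X) {x : P.obj (op X)} (hx : LocZero J P X x) :
    LocZero J P Y (res P f x) := by
  obtain ⟨S, hS, h⟩ := hx
  refine ⟨S.pullback f, J.pullback_stable f hS, fun Z g hg => ?_⟩
  rw [← res_comp]
  exact h _ hg

/-- Local character of local vanishing. -/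
lemma LocZero.of_locally {X : C} {x : P.obj (op X)} (S : Sieve X) (hS : S ∈ J X)
    (h : ∀ ⦃Y : C⦄ (f : Y ⟶ X), S f → LocZero J P Y (Groth.Agent.H45.res P f x)) :
    LocZero J P X x := by
  choose T hT hT' using h
  refine ⟨Sieve.bind S (fun Y f hf => T f hf), J.bind_covering hS (fun Y f hf => hT f hf), ?_⟩
  rintro Z _ ⟨Y, g, f, hf, hg, rfl⟩
  rw [res_comp]
  exact hT' f hf g hg

lemma LocIm.zero (φ : P ⟶ P') (X : C) : LocIm J φ X 0 :=
  ⟨⊤, J.top_mem X, fun _ _ _ => ⟨0, (map_zero _).trans (res_zero _).symm⟩⟩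

lemma LocIm.add {φ : P ⟶ P'} {X : C} {x y : P'.obj (op X)} (hx : LocIm J φ X x)
    (hy : LocIm J φ X y) : LocIm J φ X (x + y) := by
  obtain ⟨S, hS, h₁⟩ := hx
  obtain ⟨T, hT, h₂⟩ := hy
  refine ⟨S ⊓ T, J.intersection_covering hS hT, fun Y f hf => ?_⟩
  obtain ⟨a, ha⟩ := h₁ f hf.1
  obtain ⟨b, hb⟩ := h₂ f hf.2
  exact ⟨a + b, by rw [map_add, res_add, ha, hb]⟩

/-- Finitely many sections which are locally in the image are simultaneously so. -/
lemma LocSurj.exists_common_finset {φ : P ⟶ P'} (hφ : LocSurj J φ) {X : C} {ι : Type*}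
    (y : ι → P'.obj (op X)) (s : Finset ι) :
    ∃ S ∈ J X, ∀ ⦃Y : C⦄ (f : Y ⟶ X), S f →
      ∀ i ∈ s, ∃ x : P.obj (op Y), φ.app (op Y) x = res P' f (y i) := by
  classical
  induction s using Finset.induction_on with
  | empty => exact ⟨⊤, J.top_mem X, fun _ _ _ i hi => absurd hi (Finset.notMem_empty i)⟩
  | insert i s hi ih =>
    obtain ⟨S, hS, h₁⟩ := ih
    obtain ⟨T, hT, h₂⟩ := hφ X (y i)
    refine ⟨S ⊓ T, J.intersection_covering hS hT, fun Y f hf j hj => ?_⟩
    rcases Finset.mem_insert.1 hj with rfl | hj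
    · exact h₂ f hf.2
    · exact h₁ f hf.1 j hj

lemma LocSurj.exists_common {φ : P ⟶ P'} (hφ : LocSurj J φ) {X : C} {ι : Type*} [Fintype ι]
    (y : ι → P'.obj (op X)) :
    ∃ S ∈ J X, ∀ ⦃Y : C⦄ (f : Y ⟶ X), S f →
      ∃ x : ι → P.obj (op Y), ∀ i, φ.app (op Y) (x i) = res P' f (y i) := by
  obtain ⟨S, hS, h⟩ := hφ.exists_common_finset y Finset.univ
  refine ⟨S, hS, fun Y f hf => ?_⟩
  choose x hx using fun i => h f hf i (Finset.mem_univ i)
  exact ⟨x, hx⟩

end

section Tensor

variable {J}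
variable {P P' : PresheafOfModules.{u} (R ⋙ forget₂ CommRingCat RingCat)} (φ : P ⟶ P')
  (Q : PresheafOfModules.{u} (R ⋙ forget₂ CommRingCat RingCat))

/-- Pure tensors, as sections of the sectionwise tensor product. -/
noncomputable def tmulS {X : C} (p : P.obj (op X)) (q : Q.obj (op X)) : (P ⊗ Q).obj (op X) :=
  p ⊗ₜ[R.obj (op X)] q

variable {Q}

lemma res_tmulS {X Y : C} (f : Y ⟶ X) (p : P.obj (op X)) (q : Q.obj (op X)) :
    res (P ⊗ Q) f (tmulS Q p q) = tmulS Q (res P f p) (res Q f q) := rfl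

lemma whiskerRight_app_tmulS {X : C} (p : P.obj (op X)) (q : Q.obj (op X)) :
    (φ ▷ Q).app (op X) (tmulS Q p q) = tmulS Q (φ.app (op X) p) q := rfl

lemma tmulS_zero_left {X : C} (q : Q.obj (op X)) : tmulS Q (0 : P.obj (op X)) q = 0 :=
  TensorProduct.zero_tmul _ _

lemma tensor_induction {X : C} {motive : (P ⊗ Q).obj (op X) → Prop}
    (zero : motive 0) (tmul : ∀ p q, motive (tmulS Q p q))
    (add : ∀ x y, motive x → motive y → motive (x + y)) (x : (P ⊗ Q).obj (op X)) : motive x :=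
  TensorProduct.induction_on (motive := motive) x zero tmul add

variable (Q)
variable {φ}

theorem LocSurj.whiskerRight (hφ : LocSurj J φ) : LocSurj J (φ ▷ Q) := by
  intro X y
  induction y using tensor_induction with
  | zero => exact LocIm.zero _ X
  | tmul p' q =>
    obtain ⟨S, hS, h⟩ := hφ X p'
    refine ⟨S, hS, fun Y f hf => ?_⟩
    obtain ⟨p, hp⟩ := h f hf
    refine ⟨tmulS Q p (res Q f q), ?_⟩
    rw [whiskerRight_app_tmulS, hp, res_tmulS]
  | add x y hx hy => exact hx.add hy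

lemma LocZero.tmulS {X : C} {d : P.obj (op X)} (hd : LocZero J P X d) (q : Q.obj (op X)) :
    LocZero J (P ⊗ Q) X (tmulS Q d q) := by
  obtain ⟨S, hS, h⟩ := hd
  refine ⟨S, hS, fun Y f hf => ?_⟩
  rw [res_tmulS, h f hf, tmulS_zero_left]

theorem LocInj.whiskerRight (hφi : LocInj J φ) (hφs : LocSurj J φ) : LocInj J (φ ▷ Q) := by
  intro X x hx
  obtain ⟨ι, _, l, q, p, p', a, hxsum, h₁, h₂⟩ :=
    exists_trivial_vanishing' (φ.app (op X)).hom x hx
  have hxsum' : x = ∑ i, tmulS Q (p i) (q i) := hxsum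
  subst hxsum'
  obtain ⟨S, hS, hS'⟩ := hφs.exists_common p'
  refine LocZero.of_locally S hS (fun Y f hf => ?_)
  obtain ⟨p'', hp''⟩ := hS' f hf
  -- the restricted coefficients
  let c : ι → Fin l → R.obj (op Y) := fun i j => (R.map f.op).hom (a i j)
  let d : ι → P.obj (op Y) := fun i => res P f (p i) - ∑ j, c i j • p'' j
  have hd : ∀ i, LocZero J P Y (d i) := by
    intro i
    apply hφi
    have e : φ.app (op Y) (d i) =
        φ.app (op Y) (res P f (p i)) - ∑ j, c i j • φ.app (op Y) (p'' j) := by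
      simp only [d, map_sub, map_sum, map_smul]
    rw [e, sub_eq_zero, res_naturality]
    have e' : φ.app (op X) (p i) = ∑ j, a i j • p' j := h₁ i
    rw [e', res_sum]
    refine Finset.sum_congr rfl (fun j _ => ?_)
    rw [hp'' j, res_smul]
  have hrel : ∀ j, ∑ i, c i j • res Q f (q i) = 0 := by
    intro j
    have : ∑ i, c i j • res Q f (q i) = res Q f (∑ i, a i j • q i) := by
      rw [res_sum]
      refine Finset.sum_congr rfl (fun i _ => ?_)
      rw [res_smul]
    rw [this, h₂ j, res_zero]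
  have key : res (P ⊗ Q) f (∑ i, tmulS Q (p i) (q i)) =
      ∑ i, tmulS Q (d i) (res Q f (q i)) := by
    rw [res_sum]
    have e1 : ∀ i, res (P ⊗ Q) f (tmulS Q (p i) (q i)) =
        tmulS Q (d i + ∑ j, c i j • p'' j) (res Q f (q i)) := by
      intro i
      rw [res_tmulS]
      congr 1
      simp [d]
    rw [Finset.sum_congr rfl (fun i _ => e1 i)]
    exact sum_tmul_eq_of_relations d p'' c (fun i => res Q f (q i)) hrel
  rw [key]
  exact LocZero.sum _ _ (fun i _ => (hd i).tmulS Q _)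

end Tensor

end Groth.Agent.H45
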