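import Groth.Agent.H45.SheafTensor.PointStalkFlat
import Mathlib.CategoryTheory.Sites.Point.Conservative

/-!
# A module with flat stalks on a conservative family of points is flat
-/

open CategoryTheory Limits Opposite

universe u

namespace Groth.Agent.H45

section Refinement

/-- Finitely many properties of objects over `e₀`, each of which is stable under refinement and
can be achieved by refining, can be achieved simultaneously. -/
theorem exists_common_refinement {E : Type*} [Category E] (e₀ : E) {ι : Type*} [Finite ι]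
    (Q : ι → ∀ e : E, (e ⟶ e₀) → Prop)
    (hmono : ∀ i (e : E) (g : e ⟶ e₀) (e' : E) (h : e' ⟶ e), Q i e g → Q i e' (h ≫ g))
    (hex : ∀ i (e : E) (g : e ⟶ e₀), ∃ (e' : E) (h : e' ⟶ e), Q i e' (h ≫ g)) :
    ∃ (e : E) (g : e ⟶ e₀), ∀ i, Q i e g := by
  classical
  cases nonempty_fintype ι
  suffices ∀ s : Finset ι, ∃ (e : E) (g : e ⟶ e₀), ∀ i ∈ s, Q i e g by
    obtain ⟨e, g, h⟩ := this Finset.univ
    exact ⟨e, g, fun i => h i (Finset.mem_univ i)⟩
  intro s
  induction s using Finset.induction_on with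
  | empty => exact ⟨e₀, 𝟙 e₀, fun i hi => absurd hi (Finset.notMem_empty i)⟩
  | insert i s hi ih =>
    obtain ⟨e, g, h⟩ := ih
    obtain ⟨e', h', hQ⟩ := hex i e g
    refine ⟨e', h' ≫ g, fun j hj => ?_⟩
    rcases Finset.mem_insert.1 hj with rfl | hj
    · exact hQ
    · exact hmono j e g e' h' (h j hj)

end Refinement

section Main

variable {C : Type u} [SmallCategory C] {J : GrothendieckTopology C} {O : Sheaf J CommRingCat.{u}}
  (p : GrothendieckTopology.Point.{u} J)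

lemma pgM_res' (F : ModSite.Mod O) {e e' : p.fiber.Elements} (g : e' ⟶ e)
    (s : ((forg O).obj F).obj (op e.1)) :
    pgM p F e'.1 e'.2 (res ((forg O).obj F) g.1 s) = pgM p F e.1 e.2 s :=
  (pgM_res p F g.1 e'.2 s).trans (congrArg (fun z => pgM p F e.1 z s) g.2)

lemma pgR_res' {e e' : p.fiber.Elements} (g : e' ⟶ e) (r : O.obj.obj (op e.1)) :
    pgR p e'.1 e'.2 ((O.obj.map g.1.op).hom r) = pgR p e.1 e.2 r :=
  (pgR_res p g.1 e'.2 r).trans (congrArg (fun z => pgR p e.1 z r) g.2)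

lemma O_map_comp_apply {X Y Z : C} (f : Y ⟶ X) (g : Z ⟶ Y) (r : O.obj.obj (op X)) :
    (O.obj.map (g ≫ f).op).hom r = (O.obj.map g.op).hom ((O.obj.map f.op).hom r) := by
  rw [op_comp, O.obj.map_comp]
  rfl

lemma exists_refine_rep_M (F : ModSite.Mod O) (e : p.fiber.Elements) (t : ModSite.stalkAb p F) :
    ∃ (e' : p.fiber.Elements) (_ : e' ⟶ e) (s : ((forg O).obj F).obj (op e'.1)),
      pgM p F e'.1 e'.2 s = t := by
  obtain ⟨X, g, x, hx, r, hr⟩ := exists_pgM_common p F e.1 e.2 1 (fun _ => t)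
  exact ⟨⟨X, x⟩, ⟨g, hx⟩, r 0, hr 0⟩

lemma exists_refine_rep_R (e : p.fiber.Elements) (t : ModSite.stalkRing p O) :
    ∃ (e' : p.fiber.Elements) (_ : e' ⟶ e) (s : O.obj.obj (op e'.1)),
      pgR p e'.1 e'.2 s = t := by
  obtain ⟨X, g, x, hx, r, hr⟩ := exists_pgR_common p e.1 e.2 1 (fun _ => t)
  exact ⟨⟨X, x⟩, ⟨g, hx⟩, r 0, hr 0⟩

lemma exists_refine_eq_M (F : ModSite.Mod O) (e : p.fiber.Elements)
    (s₁ s₂ : ((forg O).obj F).obj (op e.1)) (h : pgM p F e.1 e.2 s₁ = pgM p F e.1 e.2 s₂) :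
    ∃ (e' : p.fiber.Elements) (g : e' ⟶ e),
      res ((forg O).obj F) g.1 s₁ = res ((forg O).obj F) g.1 s₂ := by
  obtain ⟨Y, g, y, hy, hY⟩ := exists_res_eq_of_pgM_eq p F e.1 e.2 s₁ s₂ h
  exact ⟨⟨Y, y⟩, ⟨g, hy⟩, hY⟩

lemma exists_refine_eq_R (e : p.fiber.Elements)
    (r₁ r₂ : O.obj.obj (op e.1)) (h : pgR p e.1 e.2 r₁ = pgR p e.1 e.2 r₂) :
    ∃ (e' : p.fiber.Elements) (g : e' ⟶ e),
      (O.obj.map g.1.op).hom r₁ = (O.obj.map g.1.op).hom r₂ := by
  obtain ⟨Y, g, y, hy, hY⟩ := (p.toPresheafFiber_eq_iff' (P := O.obj) e.1 e.2 r₁ r₂).1 h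
  exact ⟨⟨Y, y⟩, ⟨g, hy⟩, hY⟩

/-- Finitely many elements of the stalks have representatives on a common refinement of a given
neighbourhood. -/
theorem exists_refine_reps (F : ModSite.Mod O) (e : p.fiber.Elements) {ι₁ ι₂ : Type*} [Finite ι₁]
    [Finite ι₂] (t : ι₁ → ModSite.stalkAb p F) (f : ι₂ → ModSite.stalkRing p O) :
    ∃ (e' : p.fiber.Elements) (_ : e' ⟶ e) (s : ι₁ → ((forg O).obj F).obj (op e'.1))
      (r : ι₂ → O.obj.obj (op e'.1)),
      (∀ i, pgM p F e'.1 e'.2 (s i) = t i) ∧ ∀ j, pgR p e'.1 e'.2 (r j) = f j := by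
  obtain ⟨e₁, g₁, h₁⟩ := exists_common_refinement e
    (fun (i : ι₁) (e' : p.fiber.Elements) (_ : e' ⟶ e) =>
      ∃ s : ((forg O).obj F).obj (op e'.1), pgM p F e'.1 e'.2 s = t i)
    (fun i e' g e'' h ⟨s, hs⟩ => ⟨res ((forg O).obj F) h.1 s, (pgM_res' p F h s).trans hs⟩)
    (fun i e' g => by
      obtain ⟨e'', h, s, hs⟩ := exists_refine_rep_M p F e' (t i)
      exact ⟨e'', h, s, hs⟩)
  obtain ⟨e₂, g₂, h₂⟩ := exists_common_refinement e₁
    (fun (j : ι₂) (e' : p.fiber.Elements) (_ : e' ⟶ e₁) =>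
      ∃ r : O.obj.obj (op e'.1), pgR p e'.1 e'.2 r = f j)
    (fun j e' g e'' h ⟨r, hr⟩ => ⟨(O.obj.map h.1.op).hom r, (pgR_res' p h r).trans hr⟩)
    (fun j e' g => by
      obtain ⟨e'', h, r, hr⟩ := exists_refine_rep_R p e' (f j)
      exact ⟨e'', h, r, hr⟩)
  choose s hs using h₁
  choose r hr using h₂
  exact ⟨e₂, g₂ ≫ g₁, fun i => res ((forg O).obj F) g₂.1 (s i), r,
    fun i => (pgM_res' p F g₂ (s i)).trans (hs i), hr⟩

/-- Finitely many equalities of germs hold on a common refinement of the neighbourhood. -/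
theorem exists_refine_eqs (F : ModSite.Mod O) (e : p.fiber.Elements) {ι₁ ι₂ : Type*} [Finite ι₁]
    [Finite ι₂] (s₁ s₂ : ι₁ → ((forg O).obj F).obj (op e.1))
    (hs : ∀ i, pgM p F e.1 e.2 (s₁ i) = pgM p F e.1 e.2 (s₂ i))
    (r₁ r₂ : ι₂ → O.obj.obj (op e.1)) (hr : ∀ j, pgR p e.1 e.2 (r₁ j) = pgR p e.1 e.2 (r₂ j)) :
    ∃ (e' : p.fiber.Elements) (g : e' ⟶ e),
      (∀ i, res ((forg O).obj F) g.1 (s₁ i) = res ((forg O).obj F) g.1 (s₂ i)) ∧
      ∀ j, (O.obj.map g.1.op).hom (r₁ j) = (O.obj.map g.1.op).hom (r₂ j) := by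
  obtain ⟨e₁, g₁, h₁⟩ := exists_common_refinement e
    (fun (i : ι₁) (e' : p.fiber.Elements) (g : e' ⟶ e) =>
      res ((forg O).obj F) g.1 (s₁ i) = res ((forg O).obj F) g.1 (s₂ i))
    (fun i e' g e'' h hg => by
      show res ((forg O).obj F) (h.1 ≫ g.1) (s₁ i) = res ((forg O).obj F) (h.1 ≫ g.1) (s₂ i)
      rw [res_comp, res_comp, hg])
    (fun i e' g => by
      obtain ⟨e'', h, hh⟩ := exists_refine_eq_M p F e' (res ((forg O).obj F) g.1 (s₁ i))
        (res ((forg O).obj F) g.1 (s₂ i)) (by rw [pgM_res', pgM_res', hs])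
      refine ⟨e'', h, ?_⟩
      show res ((forg O).obj F) (h.1 ≫ g.1) (s₁ i) = res ((forg O).obj F) (h.1 ≫ g.1) (s₂ i)
      rw [res_comp, res_comp, hh])
  obtain ⟨e₂, g₂, h₂⟩ := exists_common_refinement e₁
    (fun (j : ι₂) (e' : p.fiber.Elements) (g : e' ⟶ e₁) =>
      (O.obj.map (g.1 ≫ g₁.1).op).hom (r₁ j) = (O.obj.map (g.1 ≫ g₁.1).op).hom (r₂ j))
    (fun j e' g e'' h hg => by
      show (O.obj.map ((h.1 ≫ g.1) ≫ g₁.1).op).hom (r₁ j) =
        (O.obj.map ((h.1 ≫ g.1) ≫ g₁.1).op).hom (r₂ j)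
      rw [Category.assoc, O_map_comp_apply, O_map_comp_apply (g.1 ≫ g₁.1) h.1, hg])
    (fun j e' g => by
      obtain ⟨e'', h, hh⟩ := exists_refine_eq_R p e' ((O.obj.map (g.1 ≫ g₁.1).op).hom (r₁ j))
        ((O.obj.map (g.1 ≫ g₁.1).op).hom (r₂ j)) (by
          have e1 := pgR_res' p (g ≫ g₁) (r₁ j)
          have e2 := pgR_res' p (g ≫ g₁) (r₂ j)
          exact e1.trans ((hr j).trans e2.symm))
      refine ⟨e'', h, ?_⟩
      show (O.obj.map ((h.1 ≫ g.1) ≫ g₁.1).op).hom (r₁ j) =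
        (O.obj.map ((h.1 ≫ g.1) ≫ g₁.1).op).hom (r₂ j)
      rw [Category.assoc, O_map_comp_apply, O_map_comp_apply (g.1 ≫ g₁.1) h.1, hh])
  refine ⟨e₂, g₂ ≫ g₁, fun i => ?_, fun j => h₂ j⟩
  show res ((forg O).obj F) (g₂.1 ≫ g₁.1) (s₁ i) = res ((forg O).obj F) (g₂.1 ≫ g₁.1) (s₂ i)
  rw [res_comp, res_comp, h₁ i]

/-- If the stalk of `F` at a point is flat, any relation between sections over a neighbourhood of the
point becomes trivial over a smaller neighbourhood. -/
theorem exists_point_trivialization (F : ModSite.Mod O)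
    (hflat : Module.Flat (ModSite.stalkRing p O) (ModSite.stalkMod p F)) (U : C)
    (x : p.fiber.obj U) (n : ℕ) (c : Fin n → O.obj.obj (op U))
    (m : Fin n → ((forg O).obj F).obj (op U)) (hcm : ∑ i, c i • m i = 0) :
    ∃ (V : C) (g : V ⟶ U) (v : p.fiber.obj V), p.fiber.map g v = x ∧
      ∃ (k : ℕ) (α : Fin n → Fin k → O.obj.obj (op V)) (μ : Fin k → ((forg O).obj F).obj (op V)),
        (∀ i, res ((forg O).obj F) g (m i) = ∑ j, α i j • μ j) ∧
        (∀ j, ∑ i, α i j * (O.obj.map g.op).hom (c i) = 0) := by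
  let e₀ : p.fiber.Elements := ⟨U, x⟩
  have hrel : ∑ i, pgR p U x (c i) • pgM p F U x (m i) = 0 := by
    have := congrArg (pgM p F U x) hcm
    rw [pgM_zero, pgM_sum] at this
    rw [← this]
    refine Finset.sum_congr rfl (fun i _ => ?_)
    rw [pgM_smul]
  obtain ⟨k, a, y, h1, h2⟩ : Module.IsTrivialRelation (R := ModSite.stalkRing p O)
      (M := ModSite.stalkMod p F) (fun i => pgR p U x (c i)) (fun i => pgM p F U x (m i)) :=
    Module.Flat.isTrivialRelation_of_sum_smul_eq_zero hrel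
  obtain ⟨e₁, g₁, μ, α, hμ, hα⟩ := exists_refine_reps p F e₀ (ι₁ := Fin k) (ι₂ := Fin n × Fin k)
    y (fun ij => a ij.1 ij.2)
  obtain ⟨e₂, g₂, hM, hR⟩ := exists_refine_eqs p F e₁ (ι₁ := Fin n) (ι₂ := Fin k)
    (fun i => res ((forg O).obj F) g₁.1 (m i)) (fun i => ∑ j, α (i, j) • μ j)
    (fun i => by
      rw [pgM_res' p F g₁ (m i), pgM_sum]
      refine (h1 i).trans (Finset.sum_congr rfl (fun j _ => ?_))
      rw [pgM_smul, hα, hμ])
    (fun j => ∑ i, α (i, j) * (O.obj.map g₁.1.op).hom (c i)) (fun _ => 0)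
    (fun j => by
      rw [pgR_zero, pgR_sum, ← h2 j]
      refine Finset.sum_congr rfl (fun i _ => ?_)
      rw [pgR_mul, hα, pgR_res' p g₁ (c i), mul_comm])
  refine ⟨e₂.1, g₂.1 ≫ g₁.1, e₂.2, (g₂ ≫ g₁).2, k,
    fun i j => (O.obj.map g₂.1.op).hom (α (i, j)), fun j => res ((forg O).obj F) g₂.1 (μ j),
    fun i => ?_, fun j => ?_⟩
  · rw [res_comp, hM i, res_sum]
    refine Finset.sum_congr rfl (fun j _ => ?_)
    rw [res_smul]
  · have := hR j
    rw [map_zero, map_sum] at this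
    rw [← this]
    refine Finset.sum_congr rfl (fun i _ => ?_)
    rw [map_mul, O_map_comp_apply]

end Main

section Conservative

variable {C : Type u} [SmallCategory C] {J : GrothendieckTopology C} {O : Sheaf J CommRingCat.{u}}

/-- A module whose stalks at a conservative family of points are flat satisfies the local
equational criterion. -/
theorem lmr1_of_flat_stalks (P : ObjectProperty (GrothendieckTopology.Point.{u} J))
    (hP : P.IsConservativeFamilyOfPoints) (F : ModSite.Mod O)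
    (h : ∀ p : GrothendieckTopology.Point.{u} J, P p →
      Module.Flat (ModSite.stalkRing p O) (ModSite.stalkMod p F)) :
    LMR1 J ((forg O).obj F) := by
  intro U n c m hcm
  let S : Sieve U :=
    { arrows := fun V g => ∃ (k : ℕ) (α : Fin n → Fin k → O.obj.obj (op V))
        (μ : Fin k → ((forg O).obj F).obj (op V)),
        (∀ i, res ((forg O).obj F) g (m i) = ∑ j, α i j • μ j) ∧
        (∀ j, ∑ i, α i j * (O.obj.map g.op).hom (c i) = 0)
      downward_closed := by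
        rintro V W g ⟨k, α, μ, h1, h2⟩ e
        refine ⟨k, fun i j => (O.obj.map e.op).hom (α i j),
          fun j => res ((forg O).obj F) e (μ j), fun i => ?_, fun j => ?_⟩
        · rw [res_comp, h1 i, res_sum]
          refine Finset.sum_congr rfl (fun j _ => ?_)
          rw [res_smul]
        · have := congrArg (O.obj.map e.op).hom (h2 j)
          rw [map_zero, map_sum] at this
          rw [← this]
          refine Finset.sum_congr rfl (fun i _ => ?_)
          rw [map_mul, O_map_comp_apply] }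
  refine ⟨S, ?_, fun V g hg => hg⟩
  let ι := Σ V : C, {g : V ⟶ U // S g}
  have hcov : Sieve.ofArrows (fun i : ι => i.1) (fun i => i.2.1) ∈ J U := by
    rw [hP.jointly_reflect_ofArrows_mem]
    intro Φ x
    obtain ⟨V, g, v, hv, hS⟩ :=
      exists_point_trivialization Φ.obj F (h Φ.obj Φ.property) U x n c m hcm
    exact ⟨⟨V, g, hS⟩, v, hv⟩
  refine J.superset_covering ?_ hcov
  rw [Sieve.generate_le_iff, Presieve.ofArrows_le_iff]
  exact fun i => i.2.2

/-- A module whose stalks at a conservative family of points are flat is flat. -/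
theorem isFlat_of_flat_stalks (P : ObjectProperty (GrothendieckTopology.Point.{u} J))
    (hP : P.IsConservativeFamilyOfPoints) (F : ModSite.Mod O)
    (h : ∀ p : GrothendieckTopology.Point.{u} J, P p →
      Module.Flat (ModSite.stalkRing p O) (ModSite.stalkMod p F)) :
    ModSite.IsFlat F :=
  isFlat_of_lmr F (lmr_of_lmr1 (lmr1_of_flat_stalks P hP F h))

end Conservative

end Groth.Agent.H45
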