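import Groth.Agent.H45.SheafTensor.Chase
import Groth.Prelude.Def_ModSite
import Mathlib.RingTheory.Flat.CategoryTheory
import Mathlib.Algebra.Homology.ShortComplex.ExactFunctor

/-!
# Flat presheaves of modules and short exact sequences
-/

open CategoryTheory Limits Opposite MonoidalCategory

universe u

namespace Groth.Agent.H45

variable {C : Type u} [SmallCategory C] (R : Cᵒᵖ ⥤ CommRingCat.{u})

/-- The sectionwise tensor product with a sectionwise flat presheaf of modules is left exact. -/
theorem presheaf_preservesFiniteLimits_tensorRight_of_flat_sections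
    (P : PresheafOfModules.{u} (R ⋙ forget₂ CommRingCat.{u} RingCat.{u}))
    (hP : ∀ X : Cᵒᵖ, Module.Flat (R.obj X) (P.obj X)) :
    PreservesFiniteLimits (tensorRight P) := by
  refine ⟨fun K _ _ => ⟨fun {G} => ⟨fun {c} hc => ⟨?_⟩⟩⟩⟩
  apply PresheafOfModules.evaluationJointlyReflectsLimits
  intro X
  haveI := hP X
  exact isLimitOfPreserves (tensorRight (show ModuleCat (R.obj X) from P.obj X))
    (isLimitOfPreserves (PresheafOfModules.evaluation _ X) hc)

/-- Every presheaf of modules is a quotient of a sectionwise free presheaf of modules. -/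
theorem presheaf_exists_free_cover
    (G : PresheafOfModules.{u} (R ⋙ forget₂ CommRingCat.{u} RingCat.{u})) :
    ∃ (L : PresheafOfModules.{u} (R ⋙ forget₂ CommRingCat.{u} RingCat.{u})) (π : L ⟶ G),
      (∀ X : Cᵒᵖ, Module.Flat (R.obj X) (L.obj X)) ∧ Epi π := by
  let T : Cᵒᵖ ⥤ Type u := G.presheaf ⋙ forget _
  refine ⟨PresheafOfModules.freeObj T, PresheafOfModules.freeObjDesc (𝟙 T), ?_, ?_⟩
  · intro X
    exact inferInstanceAs (Module.Flat (R.obj X) (T.obj X →₀ R.obj X))
  · apply PresheafOfModules.epi_of_surjective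
    intro X x
    exact ⟨ModuleCat.freeMk x, ModuleCat.freeDesc_apply _ x⟩

variable {R}

instance presheaf_preservesFiniteColimits_tensorLeft
    (X : PresheafOfModules.{u} (R ⋙ forget₂ CommRingCat.{u} RingCat.{u})) :
    PreservesFiniteColimits (tensorLeft X) := PreservesColimitsOfSize.preservesFiniteColimits _

instance presheaf_preservesFiniteColimits_tensorRight
    (X : PresheafOfModules.{u} (R ⋙ forget₂ CommRingCat.{u} RingCat.{u})) :
    PreservesFiniteColimits (tensorRight X) := PreservesColimitsOfSize.preservesFiniteColimits _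

attribute [local instance] preservesBinaryBiproducts_of_preservesBinaryCoproducts in
instance presheaf_additive_tensorLeft
    (X : PresheafOfModules.{u} (R ⋙ forget₂ CommRingCat.{u} RingCat.{u})) :
    (tensorLeft X).Additive := Functor.additive_of_preservesBinaryBiproducts _

attribute [local instance] preservesBinaryBiproducts_of_preservesBinaryCoproducts in
instance presheaf_additive_tensorRight
    (X : PresheafOfModules.{u} (R ⋙ forget₂ CommRingCat.{u} RingCat.{u})) :
    (tensorRight X).Additive := Functor.additive_of_preservesBinaryBiproducts _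

/-- If `0 → F'' → F' → F → 0` is a short exact sequence of presheaves of modules with `- ⊗ F`
left exact, then `F'' ⊗ G → F' ⊗ G` is a monomorphism for every `G`. -/
theorem presheaf_mono_whiskerRight_of_flat
    (S : ShortComplex (PresheafOfModules.{u} (R ⋙ forget₂ CommRingCat.{u} RingCat.{u})))
    (hS : S.ShortExact) (hF : PreservesFiniteLimits (tensorRight S.X₃))
    (G : PresheafOfModules.{u} (R ⋙ forget₂ CommRingCat.{u} RingCat.{u})) :
    Mono (S.f ▷ G) := by
  obtain ⟨L, π, hL, hπ⟩ := presheaf_exists_free_cover R G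
  let E : ShortComplex (PresheafOfModules.{u} (R ⋙ forget₂ CommRingCat.{u} RingCat.{u})) :=
    ShortComplex.mk (kernel.ι π) π (kernel.condition π)
  have hE : E.ShortExact :=
    { exact := ShortComplex.exact_of_f_is_kernel _ (kernelIsKernel π)
      mono_f := inferInstanceAs (Mono (kernel.ι π))
      epi_g := hπ }
  have hc₁ : Mono (S.X₃ ◁ kernel.ι π) := by
    have : PreservesFiniteLimits (tensorLeft S.X₃) :=
      preservesFiniteLimits_of_natIso (BraidedCategory.tensorLeftIsoTensorRight S.X₃).symm
    exact inferInstanceAs (Mono ((tensorLeft S.X₃).map (kernel.ι π)))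
  have hf₂ : Mono (S.f ▷ L) := by
    have := presheaf_preservesFiniteLimits_tensorRight_of_flat_sections R L hL
    have := hS.mono_f
    exact inferInstanceAs (Mono ((tensorRight L).map S.f))
  have hX₂ := (Functor.preservesFiniteColimits_iff_forall_exact_map_and_epi (tensorLeft S.X₂)).1
    (PreservesColimitsOfSize.preservesFiniteColimits _) E hE
  have hX₁ := (Functor.preservesFiniteColimits_iff_forall_exact_map_and_epi (tensorLeft S.X₁)).1
    (PreservesColimitsOfSize.preservesFiniteColimits _) E hE
  have hK := (Functor.preservesFiniteColimits_iff_forall_exact_map_and_epi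
    (tensorRight (kernel π))).1 (PreservesColimitsOfSize.preservesFiniteColimits _) S hS
  have ha₂ : Epi (S.X₁ ◁ π) := hX₁.2
  have z₁ : S.X₁ ◁ kernel.ι π ≫ S.X₁ ◁ π = 0 := by
    rw [← MonoidalCategory.whiskerLeft_comp, kernel.condition]
    exact (tensorLeft S.X₁).map_zero _ _
  have z₂ : S.X₂ ◁ kernel.ι π ≫ S.X₂ ◁ π = 0 := by
    rw [← MonoidalCategory.whiskerLeft_comp, kernel.condition]
    exact (tensorLeft S.X₂).map_zero _ _
  have z₃ : S.f ▷ kernel π ≫ S.g ▷ kernel π = 0 := by
    rw [← comp_whiskerRight, S.zero]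
    exact (tensorRight (kernel π)).map_zero _ _
  have z₄ : S.f ▷ L ≫ S.g ▷ L = 0 := by
    rw [← comp_whiskerRight, S.zero]
    exact (tensorRight L).map_zero _ _
  have e₂ : (ShortComplex.mk _ _ z₂).Exact := hX₂.1
  have e₃ : (ShortComplex.mk _ _ z₃).Exact := hK.1
  have sq₁ : S.X₁ ◁ kernel.ι π ≫ S.f ▷ L = S.f ▷ kernel π ≫ S.X₂ ◁ kernel.ι π :=
    whisker_exchange _ _
  have sq₂ : S.X₁ ◁ π ≫ S.f ▷ G = S.f ▷ L ≫ S.X₂ ◁ π := whisker_exchange _ _
  have sq₃ : S.X₂ ◁ kernel.ι π ≫ S.g ▷ L = S.g ▷ kernel π ≫ S.X₃ ◁ kernel.ι π :=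
    whisker_exchange _ _
  exact mono_of_grid _ _ _ _ _ _ _ _ _ _ sq₁ sq₂ sq₃ z₁ z₂ e₂ z₃ e₃ z₄

/-- If `0 → F'' → F' → F → 0` is a short exact sequence of presheaves of modules with `F` flat, then
it remains short exact after tensoring with any presheaf of modules `G`. -/
theorem presheaf_tensor_shortExact_of_flat
    (S : ShortComplex (PresheafOfModules.{u} (R ⋙ forget₂ CommRingCat.{u} RingCat.{u})))
    (hS : S.ShortExact) (hF : PreservesFiniteLimits (tensorRight S.X₃))
    (G : PresheafOfModules.{u} (R ⋙ forget₂ CommRingCat.{u} RingCat.{u}))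
    [(tensorRight G).PreservesZeroMorphisms] :
    (S.map (tensorRight G)).ShortExact :=
  have h := (Functor.preservesFiniteColimits_iff_forall_exact_map_and_epi (tensorRight G)).1
    (PreservesColimitsOfSize.preservesFiniteColimits _) S hS
  { exact := h.1
    mono_f := presheaf_mono_whiskerRight_of_flat S hS hF G
    epi_g := h.2 }

end Groth.Agent.H45
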