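import Groth.Agent.H45.SheafTensor.Equational
import Mathlib.Algebra.Category.ModuleCat.Stalk
import Mathlib.RingTheory.Flat.EquationalCriterion

/-!
# Stalkwise flat modules on a ringed space satisfy the local equational criterion
-/

open CategoryTheory Limits Opposite MonoidalCategory TopologicalSpace

universe u

namespace Groth.Agent.H45

section Algebra

open LinearMap Finsupp

/-- The equational criterion of flatness, for a finite system of relations. -/
theorem exists_trivialization_of_flat {R M : Type*} [CommRing R] [AddCommGroup M] [Module R M]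
    [Module.Flat R M] {ι : Type*} [Fintype ι] {l : ℕ} (c : ι → Fin l → R) (m : ι → M)
    (h : ∀ j, ∑ i, c i j • m i = 0) :
    ∃ (k : ℕ) (α : ι → Fin k → R) (μ : Fin k → M),
      (∀ i, m i = ∑ k', α i k' • μ k') ∧ ∀ j k', ∑ i, α i k' * c i j = 0 := by
  classical
  let x : (ι →₀ R) →ₗ[R] M := Finsupp.linearCombination R m
  let f : (Fin l →₀ R) →ₗ[R] (ι →₀ R) :=
    Finsupp.linearCombination R (fun j => ∑ i, Finsupp.single i (c i j))
  have h0 : x ∘ₗ f = 0 := by
    ext j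
    simp [x, f, h j]
  obtain ⟨k, a, y, hxy, haf⟩ := Module.Flat.exists_factorization_of_comp_eq_zero_of_free h0
  refine ⟨k, fun i k' => a (Finsupp.single i 1) k', fun k' => y (Finsupp.single k' 1), ?_, ?_⟩
  · intro i
    have e : m i = x (Finsupp.single i 1) := by simp [x]
    rw [e, hxy, LinearMap.comp_apply]
    conv_lhs => rw [← Finsupp.univ_sum_single (a (Finsupp.single i 1))]
    rw [map_sum]
    refine Finset.sum_congr rfl (fun k' _ => ?_)
    rw [← map_smul, Finsupp.smul_single, smul_eq_mul, mul_one]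
  · intro j k'
    have := congr($haf (Finsupp.single j 1) k')
    have e : ∀ i, Finsupp.single i (c i j) = c i j • Finsupp.single i (1 : R) := fun i => by
      rw [Finsupp.smul_single, smul_eq_mul, mul_one]
    simp only [f, LinearMap.comp_apply, Finsupp.linearCombination_single, one_smul, map_sum,
      LinearMap.zero_apply, Finsupp.coe_zero, Pi.zero_apply, Finsupp.coe_finsetSum,
      Finset.sum_apply, e, map_smul, Finsupp.coe_smul, Pi.smul_apply, smul_eq_mul] at this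
    rw [← this]
    exact Finset.sum_congr rfl (fun i _ => mul_comm _ _)

end Algebra

section Nhd

variable {X : TopCat.{u}}

/-- Finitely many local properties which hold near `x` hold simultaneously near `x`. -/
theorem exists_common_nhd (x : X) {ι : Type*} [Finite ι] (U₀ : Opens X) (hx₀ : x ∈ U₀)
    (p : ι → Opens X → Prop)
    (hmono : ∀ i (V W : Opens X), V ≤ U₀ → W ≤ V → x ∈ W → p i V → p i W)
    (hex : ∀ i, ∃ V : Opens X, V ≤ U₀ ∧ x ∈ V ∧ p i V) :
    ∃ V : Opens X, V ≤ U₀ ∧ x ∈ V ∧ ∀ i, p i V := by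
  classical
  cases nonempty_fintype ι
  suffices ∀ s : Finset ι, ∃ V : Opens X, V ≤ U₀ ∧ x ∈ V ∧ ∀ i ∈ s, p i V by
    obtain ⟨V, h1, h2, h3⟩ := this Finset.univ
    exact ⟨V, h1, h2, fun i => h3 i (Finset.mem_univ i)⟩
  intro s
  induction s using Finset.induction_on with
  | empty => exact ⟨U₀, le_rfl, hx₀, fun i hi => absurd hi (Finset.notMem_empty i)⟩
  | insert i s hi ih =>
    obtain ⟨V, h1, h2, h3⟩ := ih
    obtain ⟨V', h1', h2', h3'⟩ := hex i
    refine ⟨V ⊓ V', inf_le_left.trans h1, ⟨h2, h2'⟩, fun j hj => ?_⟩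
    rcases Finset.mem_insert.1 hj with rfl | hj
    · exact hmono _ V' _ h1' inf_le_right ⟨h2, h2'⟩ h3'
    · exact hmono _ V _ h1 inf_le_left ⟨h2, h2'⟩ (h3 j hj)

end Nhd

section Main

variable {X : TopCat.{u}} {R : X.Presheaf CommRingCat.{u}}
  (M : PresheafOfModules.{u} (R ⋙ forget₂ CommRingCat RingCat))

/-- The germ of a section of a presheaf of modules. -/
noncomputable def gM (x : X) (U : Opens X) (hx : x ∈ U) (m : M.obj (op U)) :
    ↑(TopCat.Presheaf.stalk M.presheaf x) :=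
  TopCat.Presheaf.germ M.presheaf U x hx m

/-- The germ of a section of the presheaf of rings. -/
noncomputable def gR (x : X) (U : Opens X) (hx : x ∈ U) : R.obj (op U) →+* R.stalk x :=
  (R.germ U x hx).hom

variable {M}

lemma gM_zero (x : X) (U : Opens X) (hx : x ∈ U) : gM M x U hx 0 = 0 :=
  map_zero (TopCat.Presheaf.germ M.presheaf U x hx).hom

lemma gM_sum (x : X) (U : Opens X) (hx : x ∈ U) {ι : Type*} (s : Finset ι)
    (m : ι → M.obj (op U)) : gM M x U hx (∑ i ∈ s, m i) = ∑ i ∈ s, gM M x U hx (m i) :=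
  map_sum (TopCat.Presheaf.germ M.presheaf U x hx).hom m s

lemma gM_smul (x : X) (U : Opens X) (hx : x ∈ U) (r : R.obj (op U)) (m : M.obj (op U)) :
    gM M x U hx (r • m) = gR x U hx r • gM M x U hx m :=
  PresheafOfModules.germ_smul M x U hx r m

lemma gM_res (x : X) {U V : Opens X} (f : V ⟶ U) (hx : x ∈ V) (m : M.obj (op U)) :
    gM M x V hx (res M f m) = gM M x U (f.le hx) m :=
  TopCat.Presheaf.germ_res_apply M.presheaf f x hx m

lemma gR_res (x : X) {U V : Opens X} (f : V ⟶ U) (hx : x ∈ V) (r : R.obj (op U)) :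
    gR x V hx ((R.map f.op).hom r) = gR x U (f.le hx) r :=
  TopCat.Presheaf.germ_res_apply R f x hx r

lemma exists_gM_eq (x : X) (t : ↑(TopCat.Presheaf.stalk M.presheaf x)) :
    ∃ (V : Opens X) (hx : x ∈ V) (m : M.obj (op V)), gM M x V hx m = t :=
  TopCat.Presheaf.exists_germ_eq M.presheaf t

lemma exists_gR_eq (x : X) (t : R.stalk x) :
    ∃ (V : Opens X) (hx : x ∈ V) (r : R.obj (op V)), gR x V hx r = t :=
  TopCat.Presheaf.exists_germ_eq R t

lemma exists_res_eq_of_gM_eq (x : X) {V : Opens X} (hx : x ∈ V) (s t : M.obj (op V))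
    (h : gM M x V hx s = gM M x V hx t) :
    ∃ W : Opens X, W ≤ V ∧ x ∈ W ∧ ∀ hW : W ≤ V, res M (homOfLE hW) s = res M (homOfLE hW) t := by
  obtain ⟨W, hxW, i₁, i₂, e⟩ := TopCat.Presheaf.germ_eq M.presheaf x hx hx s t h
  refine ⟨W, i₁.le, hxW, fun hW => ?_⟩
  have e₁ : homOfLE hW = i₁ := Subsingleton.elim _ _
  have e₂ : homOfLE hW = i₂ := Subsingleton.elim _ _
  conv_lhs => rw [e₁]
  conv_rhs => rw [e₂]
  exact e

lemma exists_res_eq_of_gR_eq (x : X) {V : Opens X} (hx : x ∈ V) (s t : R.obj (op V))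
    (h : gR x V hx s = gR x V hx t) :
    ∃ W : Opens X, W ≤ V ∧ x ∈ W ∧
      ∀ hW : W ≤ V, (R.map (homOfLE hW).op).hom s = (R.map (homOfLE hW).op).hom t := by
  obtain ⟨W, hxW, i₁, i₂, e⟩ := TopCat.Presheaf.germ_eq R x hx hx s t h
  refine ⟨W, i₁.le, hxW, fun hW => ?_⟩
  have e₁ : homOfLE hW = i₁ := Subsingleton.elim _ _
  have e₂ : homOfLE hW = i₂ := Subsingleton.elim _ _
  conv_lhs => rw [e₁]
  conv_rhs => rw [e₂]
  exact e

lemma R_map_comp_apply {U V W : Opens X} (f : V ⟶ U) (g : W ⟶ V) (r : R.obj (op U)) :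
    (R.map (g ≫ f).op).hom r = (R.map g.op).hom ((R.map f.op).hom r) := by
  rw [op_comp, R.map_comp]
  rfl

/-- The local trivialization of a finite system of relations near a point where the stalk is
flat. -/
theorem exists_local_trivialization (x : X)
    [hflat : Module.Flat (R.stalk x) ↑(TopCat.Presheaf.stalk M.presheaf x)]
    {U : Opens X} (hxU : x ∈ U) {ι : Type} [Fintype ι] {l : ℕ}
    (c : ι → Fin l → R.obj (op U)) (m : ι → M.obj (op U))
    (hrel : ∀ j, ∑ i, c i j • m i = 0) :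
    ∃ (V : Opens X) (hVU : V ≤ U), x ∈ V ∧
      ∃ (k : ℕ) (α : ι → Fin k → R.obj (op V)) (μ : Fin k → M.obj (op V)),
        (∀ i, res M (homOfLE hVU) (m i) = ∑ k', α i k' • μ k') ∧
        (∀ j k', ∑ i, α i k' * (R.map (homOfLE hVU).op).hom (c i j) = 0) := by
  have hg : ∀ j, ∑ i, gR x U hxU (c i j) • gM M x U hxU (m i) = 0 := by
    intro j
    rw [← gM_zero x U hxU, ← hrel j, gM_sum]
    exact Finset.sum_congr rfl (fun i _ => (gM_smul x U hxU _ _).symm)
  obtain ⟨k, α', μ', h1, h2⟩ := exists_trivialization_of_flat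
    (fun i j => gR x U hxU (c i j)) (fun i => gM M x U hxU (m i)) hg
  -- Step 1: lift the `α'`
  obtain ⟨V₁, hV₁U, hxV₁, hα₁⟩ := exists_common_nhd x U hxU (ι := ι × Fin k)
    (fun ik V => ∃ (hx : x ∈ V) (a : R.obj (op V)), gR x V hx a = α' ik.1 ik.2)
    (fun ik V W _ hWV hxW ⟨hx, a, ha⟩ =>
      ⟨hxW, (R.map (homOfLE hWV).op).hom a, (gR_res x (homOfLE hWV) hxW a).trans ha⟩)
    (fun ik => by
      obtain ⟨V, hx, a, ha⟩ := exists_gR_eq x (α' ik.1 ik.2)
      exact ⟨U ⊓ V, inf_le_left, ⟨hxU, hx⟩, ⟨hxU, hx⟩,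
        (R.map (homOfLE (inf_le_right : U ⊓ V ≤ V)).op).hom a,
        (gR_res x (homOfLE inf_le_right) ⟨hxU, hx⟩ a).trans ha⟩)
  choose _ α₁ hα₁ using hα₁
  -- Step 2: lift the `μ'`
  obtain ⟨V₂, hV₂V₁, hxV₂, hμ₂⟩ := exists_common_nhd x V₁ hxV₁ (ι := Fin k)
    (fun k' V => ∃ (hx : x ∈ V) (b : M.obj (op V)), gM M x V hx b = μ' k')
    (fun k' V W _ hWV hxW ⟨hx, b, hb⟩ =>
      ⟨hxW, res M (homOfLE hWV) b, (gM_res x (homOfLE hWV) hxW b).trans hb⟩)
    (fun k' => by
      obtain ⟨V, hx, b, hb⟩ := exists_gM_eq x (μ' k')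
      exact ⟨V₁ ⊓ V, inf_le_left, ⟨hxV₁, hx⟩, ⟨hxV₁, hx⟩,
        res M (homOfLE (inf_le_right : V₁ ⊓ V ≤ V)) b,
        (gM_res x (homOfLE inf_le_right) ⟨hxV₁, hx⟩ b).trans hb⟩)
  choose _ μ₂ hμ₂ using hμ₂
  have hV₂U : V₂ ≤ U := hV₂V₁.trans hV₁U
  let α₂ : ι → Fin k → R.obj (op V₂) := fun i k' => (R.map (homOfLE hV₂V₁).op).hom (α₁ (i, k'))
  have hα₂ : ∀ i k', gR x V₂ hxV₂ (α₂ i k') = α' i k' := fun i k' =>
    (gR_res x (homOfLE hV₂V₁) hxV₂ _).trans (hα₁ (i, k'))
  have hμ₂' : ∀ k', gM M x V₂ hxV₂ (μ₂ k') = μ' k' := fun k' => hμ₂ k'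
  -- Step 3: the module equalities
  obtain ⟨V₃, hV₃V₂, hxV₃, h₃⟩ := exists_common_nhd x V₂ hxV₂ (ι := ι)
    (fun i W => ∀ hW : W ≤ V₂, res M (homOfLE hW) (res M (homOfLE hV₂U) (m i)) =
      res M (homOfLE hW) (∑ k', α₂ i k' • μ₂ k'))
    (fun i V W hVV₂ hWV hxW hV hW => by
      have e : homOfLE hW = homOfLE hWV ≫ homOfLE hVV₂ := Subsingleton.elim _ _
      rw [e, res_comp, res_comp, hV hVV₂])
    (fun i => by
      apply exists_res_eq_of_gM_eq x hxV₂
      rw [gM_res, gM_sum, h1 i]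
      refine Finset.sum_congr rfl (fun k' _ => ?_)
      rw [gM_smul, hα₂, hμ₂'])
  -- Step 4: the ring equalities
  obtain ⟨V₄, hV₄V₃, hxV₄, h₄⟩ := exists_common_nhd x V₃ hxV₃ (ι := Fin l × Fin k)
    (fun jk W => ∀ hW : W ≤ V₂, (R.map (homOfLE hW).op).hom
      (∑ i, α₂ i jk.2 * (R.map (homOfLE hV₂U).op).hom (c i jk.1)) =
        (R.map (homOfLE hW).op).hom 0)
    (fun jk V W hVV₃ hWV hxW hV hW => by
      have hVV₂ : V ≤ V₂ := hVV₃.trans hV₃V₂
      have e : homOfLE hW = homOfLE hWV ≫ homOfLE hVV₂ := Subsingleton.elim _ _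
      rw [e, R_map_comp_apply, R_map_comp_apply, hV hVV₂])
    (fun jk => by
      obtain ⟨W, hWV₂, hxW, hW⟩ := exists_res_eq_of_gR_eq x hxV₂
        (∑ i, α₂ i jk.2 * (R.map (homOfLE hV₂U).op).hom (c i jk.1)) 0 (by
          rw [map_zero, map_sum, ← h2 jk.1 jk.2]
          refine Finset.sum_congr rfl (fun i _ => ?_)
          rw [map_mul, hα₂, gR_res])
      exact ⟨V₃ ⊓ W, inf_le_left, ⟨hxV₃, hxW⟩, fun hW' => by
        have e : homOfLE hW' = homOfLE (inf_le_right : V₃ ⊓ W ≤ W) ≫ homOfLE hWV₂ :=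
          Subsingleton.elim _ _
        rw [e, R_map_comp_apply, R_map_comp_apply, hW hWV₂]⟩)
  have hV₄V₂ : V₄ ≤ V₂ := hV₄V₃.trans hV₃V₂
  have hV₄U : V₄ ≤ U := hV₄V₂.trans hV₂U
  refine ⟨V₄, hV₄U, hxV₄, k, fun i k' => (R.map (homOfLE hV₄V₂).op).hom (α₂ i k'),
    fun k' => res M (homOfLE hV₄V₂) (μ₂ k'), fun i => ?_, fun j k' => ?_⟩
  · have e : homOfLE hV₄U = homOfLE hV₄V₃ ≫ homOfLE hV₃V₂ ≫ homOfLE hV₂U :=
      Subsingleton.elim _ _
    have e' : homOfLE hV₄V₂ = homOfLE hV₄V₃ ≫ homOfLE hV₃V₂ := Subsingleton.elim _ _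
    rw [e, res_comp, res_comp, h₃ i hV₃V₂, ← res_comp, ← e', res_sum]
    refine Finset.sum_congr rfl (fun k' _ => ?_)
    rw [res_smul]
  · have e : homOfLE hV₄U = homOfLE hV₄V₂ ≫ homOfLE hV₂U := Subsingleton.elim _ _
    have := h₄ (j, k') hV₄V₂
    rw [map_zero, map_sum] at this
    rw [← this]
    refine Finset.sum_congr rfl (fun i _ => ?_)
    rw [map_mul, e, R_map_comp_apply]

variable (M) in
/-- A presheaf of modules on a ringed space whose stalks are flat satisfies the local equational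
criterion. -/
theorem lmr_of_flat_stalks
    (h : ∀ x : X, Module.Flat (R.stalk x) ↑(TopCat.Presheaf.stalk M.presheaf x)) :
    LMR (Opens.grothendieckTopology X) M := by
  intro U ι _ l c m hrel
  let S : Sieve U :=
    { arrows := fun V g => ∃ (k : ℕ) (α : ι → Fin k → R.obj (op V)) (μ : Fin k → M.obj (op V)),
        (∀ i, res M g (m i) = ∑ k', α i k' • μ k') ∧
        (∀ j k', ∑ i, α i k' * (R.map g.op).hom (c i j) = 0)
      downward_closed := by
        rintro V W g ⟨k, α, μ, h1, h2⟩ f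
        refine ⟨k, fun i k' => (R.map f.op).hom (α i k'), fun k' => res M f (μ k'),
          fun i => ?_, fun j k' => ?_⟩
        · rw [res_comp, h1 i, res_sum]
          refine Finset.sum_congr rfl (fun k' _ => ?_)
          rw [res_smul]
        · have := congrArg (R.map f.op).hom (h2 j k')
          rw [map_zero, map_sum] at this
          rw [← this]
          refine Finset.sum_congr rfl (fun i _ => ?_)
          rw [map_mul, R_map_comp_apply] }
  refine ⟨S, ?_, fun V g hg => hg⟩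
  intro x hxU
  have := h x
  obtain ⟨V, hVU, hxV, hV⟩ := exists_local_trivialization x hxU c m hrel
  exact ⟨V, homOfLE hVU, hV, hxV⟩

end Main

end Groth.Agent.H45
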